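import Groth.Agent.HMBr.Sections

/-!
# The numerical criterion of semistability on a proper scheme
-/

set_option autoImplicit false
set_option backward.isDefEq.respectTransparency false
set_option linter.style.haveILetI false
set_option linter.unusedSectionVars false

universe u

open CategoryTheory CategoryTheory.Limits MonoidalCategory CartesianMonoidalCategory MonObj AlgebraicGeometry Opposite
open TopologicalSpace Groth.Agent.HMu Groth.Agent.HMCrit
open scoped LaurentPolynomial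

noncomputable section

namespace Groth.Agent.HMBr

variable {k : Type u} [Field k] {G X : Over (Spec (CommRingCat.of k))} [GrpObj G] {a : AlgGrp.Action G X}
  {B : GLinSh.LinBun G a}

/-- A function of given weight is non-zero at a non-zero point of a fibre iff the base point is in its open. -/
theorem val_ne_zero_iff_mem {n : ℕ} {f : Γ(B.V.left, ⊤)} (hf : GLinSh.HasWeight B.atlas.chart n f) {v : Pt B.V}
    (hv : Nz B v) : val (U := ⊤) f v trivial ≠ 0 ↔ base (v ≫ B.π) ∈ GLinSh.nonvanishing B.π f := by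
  obtain ⟨W, y, hxW, -, hy⟩ := GITss.exists_triv B (x := base (v ≫ B.π)) (O := ⊤) trivial
  obtain ⟨c, hc⟩ := hy.exists_coeff hf
  have hvW : base v ∈ B.π.left ⁻¹ᵁ W := by
    show B.π.left (base v) ∈ W
    rw [← base_comp]; exact hxW
  have hyne : val y v hvW ≠ 0 := by
    obtain ⟨U₀, hU₀, y₀, hy₀, rfl⟩ := hy.ex
    rw [GLinSh.res, val_res]
    exact hv U₀ y₀ hy₀ _
  rw [val_weight hc v hvW, mul_ne_zero_iff, and_iff_left (pow_ne_zero _ hyne), val_ne_zero_iff,
    hy.mem_nonvanishing hc hxW]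

theorem val_inv {f : Γ(B.V.left, ⊤)} (hf : GLinSh.IsInvFn B.lift f) (g : Pt G) (v : Pt B.V) :
    val (U := ⊤) f (lift g v ≫ B.lift.act) trivial = val (U := ⊤) f v trivial := by
  rw [← val_appTop B.lift.act f (lift g v), hf, val_appTop (snd G B.V) f (lift g v)]
  exact val_congr' (U := ⊤) f (lift_snd g v) trivial trivial

theorem evalT_eq_sum (z : kˣ) (x : k[T;T⁻¹]) :
    evalT z x = x.coeff.sum fun d c => c * (z : k) ^ d := by
  induction x using AddMonoidAlgebra.induction_linear with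
  | zero => simp
  | add x y hx hy =>
    rw [map_add, hx, hy, AddMonoidAlgebra.coeff_add, Finsupp.sum_add_index' (fun d => zero_mul _)
      (fun d p q => add_mul _ _ _)]
  | single d c => rw [evalT_single, AddMonoidAlgebra.coeff_single, Finsupp.sum_single_index (zero_mul _)]

theorem forall_exists_invSection_nonneg [Infinite k] {l : Red.Gm (Spec (CommRingCat.of k)) ⟶ G} [IsMonHom l]
    {x : Pt X} {n : ℕ} {f : Γ(B.V.left, ⊤)} (hn : 1 ≤ n) (hf : B.IsInvSection n f)
    (hx : base x ∈ GLinSh.nonvanishing B.π f) {m : ℤ} (hm : HMNum.IsMu B l x m) : 0 ≤ m := by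
  obtain ⟨y, -, hy⟩ := core hm
  obtain ⟨v, hv, hnz⟩ := exists_nz (B := B) x
  have hne : val (U := ⊤) f v trivial ≠ 0 := (val_ne_zero_iff_mem hf.1 hnz).2 (hv.symm ▸ hx)
  obtain ⟨hlow, -⟩ := hy n f hf.1 v hv hnz (Finsupp.single 0 (val (U := ⊤) f v trivial)) fun z => by
    rw [val_inv hf.2, Finsupp.sum_single_index (zero_mul _), zpow_zero, _root_.mul_one]
  by_contra hlt
  have h := hlow 0 (by nlinarith [show (1 : ℤ) ≤ n by exact_mod_cast hn])
  rw [Finsupp.single_eq_same] at h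
  exact hne h

variable {A : Type u} [CommRing A] [HopfAlgebra k A] (e : CoactBr.sp k A ≅ G) [IsMonHom e.hom]
  [IsAlgClosed k] [CharZero k] [Algebra.FiniteType k A] [IsProper X.hom]

variable (B) in
theorem exists_linData_cover (hB : HMNum.AmpleCover B) {n₀ : ℕ} (hn₀ : 1 ≤ n₀) {f₀ : Γ(B.V.left, ⊤)}
    (hf₀ : GLinSh.HasWeight B.atlas.chart n₀ f₀)
    (haff₀ : ∃ U : X.left.Opens, (U : Set X.left) = GLinSh.nonvanishing B.π f₀ ∧ IsAffineOpen U) :
    ∃ (L : LinData B e) (q : ℕ), 1 ≤ L.N ∧ 1 ≤ q ∧ L.N = n₀ * q ∧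
      (∀ x : X.left, ∃ i, x ∈ GLinSh.nonvanishing B.π (L.F i)) ∧
      ∀ v : Pt B.V, L.vec v = 0 → val (U := ⊤) f₀ v trivial = 0 := by
  classical
  haveI := hB.1
  choose n f hn hf hx U hU hUa using hB.2
  obtain ⟨t, ht⟩ := isCompact_univ.elim_finite_subcover (fun x => GLinSh.nonvanishing B.π (f x))
    (fun x => GITss.isOpen_nonvanishing B (hf x)) fun x _ => Set.mem_iUnion.2 ⟨x, hx x⟩
  let N := n₀ * ∏ i ∈ t, n i
  have hq : 1 ≤ ∏ i ∈ t, n i := Finset.one_le_prod' fun i _ => hn i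
  let g : Option t → Γ(B.V.left, ⊤) := fun o =>
    o.elim (f₀ ^ ∏ i ∈ t, n i) fun i => f i.1 ^ (N / n i.1)
  have hdvd : ∀ i : t, n i.1 * (N / n i.1) = N := fun i =>
    Nat.mul_div_cancel' (Dvd.dvd.mul_left (Finset.dvd_prod_of_mem _ i.2) _)
  have hN : 1 ≤ N := Nat.mul_pos hn₀ hq
  have hpos : ∀ i : t, 1 ≤ N / n i.1 := fun i => by
    rcases Nat.eq_zero_or_pos (N / n i.1) with h | h
    · have := hdvd i; rw [h] at this; omega
    · exact h
  obtain ⟨L, hLN, hLv, hLc⟩ := exists_linData B e (N := N) g (by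
    rintro (_ | i)
    · exact GITss.hasWeight_pow hf₀ _
    · have h := GITss.hasWeight_pow (hf i.1) (N / n i.1)
      rwa [hdvd i] at h) (by
    rintro (_ | i)
    · obtain ⟨U₀, hU₀, hU₀a⟩ := haff₀
      exact ⟨U₀, hU₀.trans (GITss.nonvanishing_pow hf₀ hq).symm, hU₀a⟩
    · exact ⟨U i.1, (hU i.1).trans (GITss.nonvanishing_pow (hf i.1) (hpos i)).symm, hUa i.1⟩)
  refine ⟨L, ∏ i ∈ t, n i, by rw [hLN]; exact hN, hq, hLN, fun x => ?_, fun v hv => ?_⟩
  · obtain ⟨i, hi, hxi⟩ := Set.mem_iUnion₂.1 (ht (Set.mem_univ x))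
    refine hLc (some ⟨i, hi⟩) x ?_
    show x ∈ GLinSh.nonvanishing B.π (f i ^ _)
    rw [GITss.nonvanishing_pow (hf i) (hpos ⟨i, hi⟩)]
    exact hxi
  · have h := hLv none v hv
    rw [show g none = f₀ ^ ∏ i ∈ t, n i from rfl, val_pow] at h
    exact eq_zero_of_pow_eq_zero h

variable {e}

namespace LinData

variable (L : LinData B e)

theorem vec_ne_zero (hc : ∀ x : X.left, ∃ i, x ∈ GLinSh.nonvanishing B.π (L.F i)) {v : Pt B.V} (hv : Nz B v) :
    L.vec v ≠ 0 := fun h => by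
  obtain ⟨i, hi⟩ := hc (base (v ≫ B.π))
  exact (val_ne_zero_iff_mem (L.hF i) hv).2 hi (congrFun h i)

theorem orbitHom_X (v : L.J → k) (i : L.J) :
    letI := PsRefl.linComod L.corep
    haveI := PsRefl.isCoactAlg_linComod L.corep
    ∀ {K : Type u} [CommRing K] [Algebra k K] (φ : A →ₐ[k] K),
      φ (GLin.orbitHom k A (GLin.vecPt k L.J v) (MvPolynomial.X i)) = mv L.M φ v i := by
  letI := PsRefl.linComod L.corep
  haveI := PsRefl.isCoactAlg_linComod L.corep
  intro K _ _ φ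
  show φ ((Algebra.TensorProduct.lid k A) (Algebra.TensorProduct.map (GLin.vecPt k L.J v) (AlgHom.id k A)
    (PsRefl.linHom k L.M (MvPolynomial.X i)))) = _
  rw [PsRefl.linHom_X, map_sum, map_sum, map_sum]
  simp [mv, Matrix.vecMul, dotProduct, GLin.vecPt, Algebra.smul_def]

/-- Orders along the orbit of a one-parameter subgroup with no low terms. -/
theorem mu_le (lam : A →ₐc[k] k[T;T⁻¹]) [IsMonHom (opsInv e lam)]
    (hc : ∀ x : X.left, ∃ i, x ∈ GLinSh.nonvanishing B.π (L.F i)) {x : Pt X} {v : Pt B.V} (hv : v ≫ B.π = x)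
    (hnz : Nz B v) {d : ℤ} (h : ∀ i, NoNeg d (mv L.M (lam : A →ₐ[k] k[T;T⁻¹]) (L.vec v) i)) {m : ℤ}
    (hm : HMNum.IsMu B (opsInv e lam) x m) : (L.N : ℤ) * m ≤ -d := by
  obtain ⟨y, -, hy⟩ := core hm
  obtain ⟨i, hi⟩ := hc (base y)
  have has : ∀ z : kˣ, val (U := ⊤) (L.F i) (lift (gp z ≫ opsInv e lam) v ≫ B.lift.act) trivial =
      (mv L.M (lam : A →ₐ[k] k[T;T⁻¹]) (L.vec v) i).coeff.sum fun d c => c * (z : k) ^ d := fun z => by
    rw [← evalT_eq_sum]
    refine (congrFun (L.vec_act (gp z ≫ opsInv e lam) v) i).trans ?_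
    rw [gp_opsInv, inv_inv, ev_pp]
    simp only [mv, Matrix.vecMul, dotProduct, map_sum, map_mul, AlgHom.commutes, Matrix.map_apply,
      Algebra.algebraMap_self, RingHom.id_apply]
    rfl
  have h2 := (hy L.N (L.F i) (L.hF i) v hv hnz _ has).2 hi
  by_contra hlt
  exact h2 (h i _ (by omega))

end LinData

variable (e) in
include e in
/-- A point where no invariant section is non-zero has a destabilising subgroup. -/
theorem exists_destabilising (hLR : HopfRep.IsLinearlyReductive k A) (hB : HMNum.AmpleCover B) (x : Pt X)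
    (hx : ¬ B.IsSemistablePt (base x)) :
    ∃ (l : Red.Gm (Spec (CommRingCat.of k)) ⟶ G) (_ : IsMonHom l) (m : ℤ), HMNum.IsMu B l x m ∧ m < 0 := by
  classical
  obtain ⟨n₀, f₀, hn₀, hf₀, -, haff₀⟩ := hB.2 (base x)
  obtain ⟨L, q, hN, -, -, hc, -⟩ := exists_linData_cover B e hB hn₀ hf₀ haff₀
  obtain ⟨v, hv, hnz⟩ := exists_nz (B := B) x
  letI := PsRefl.linComod L.corep
  haveI := PsRefl.isCoactAlg_linComod L.corep
  have hmv : ∀ {K : Type u} [CommRing K] [Algebra k K] (φ : A →ₐ[k] K) (w : L.J → k) (i : L.J),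
      φ (GLin.orbitHom k A (GLin.vecPt k L.J w) (MvPolynomial.X i)) = mv L.M φ w i :=
    fun φ w i => L.orbitHom_X w i φ
  have hu := L.vec_ne_zero hc hnz
  have hcl : GLin.InOrbitClosure k A (GLin.vecPt k L.J (L.vec v)) (GLin.vecPt k L.J fun _ => (0 : k)) := by
    by_contra hno
    have hss := (S19603.result k A hLR L.J (PsRefl.isLinear_linComod L.corep) (L.vec v)).2 hno
    unfold GLin.IsSemistableVec GLin.IsNullform at hss
    push Not at hss
    obtain ⟨P, hP, d, hd, hPd, hPv⟩ := hss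
    refine hx ⟨L.N * d, peval B.V L.F P, Nat.mul_pos hN hd, L.isInvSection_peval hPd hP, ?_,
      GITss.Xf B (L.hasWeight_peval hPd), rfl, L.isAffineOpen_peval hd hPd⟩
    have h := (val_ne_zero_iff_mem (L.hasWeight_peval hPd) hnz).1 (by rw [L.val_peval]; exact hPv)
    rwa [hv] at h
  obtain ⟨lam, -, -, h1⟩ := exists_lam_of_boundary L.corep hmv hLR hcl fun g hg => hu (funext fun j => by
    have := congrFun (mv_mul_inv L.corep g (L.vec v)) j
    rw [hg] at this
    simpa [Matrix.vecMul, dotProduct] using this.symm)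
  haveI := isMonHom_opsInv e lam
  haveI : Infinite k := IsAlgClosed.instInfinite
  obtain ⟨m, hm⟩ := HMu.exists_isMu (a := a) (opsInv e lam) B x
  refine ⟨opsInv e lam, ‹_›, m, hm, ?_⟩
  have := L.mu_le lam hc hv hnz (h1 rfl) hm
  nlinarith [show (1 : ℤ) ≤ L.N by exact_mod_cast hN]

end Groth.Agent.HMBr
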