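import Groth.Agent.HMCrit.Main
import Groth.Agent.HMCrit.Place
import Groth.Agent.GLinFree.ClosedFinite
import Groth.Agent.PsRefl.LinAction

/-!
# The orbit morphism of a vector without bounded one-parameter orbits is integral
-/

set_option autoImplicit false
set_option linter.unusedSectionVars false
set_option linter.style.haveILetI false

universe u

open CoordGrp Groth.Agent.HMCrit Groth.Agent.GLForms
open scoped LaurentPolynomial

noncomputable section

namespace Groth.Agent.HMBr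

/-- An element is integral over a subalgebra when it is a polynomial in its inverse. -/
theorem isIntegral_of_mem_adjoin_inv {k K : Type*} [CommRing k] [Field K] [Algebra k K] {C : Subalgebra k K} {b : K}
    (hb : b ≠ 0) (h : b ∈ Algebra.adjoin C {b⁻¹}) : IsIntegral C b := by
  obtain ⟨Q, hQ⟩ := Algebra.adjoin_mem_exists_aeval C b⁻¹ h
  refine ⟨Polynomial.X ^ (Q.natDegree + 1) -
    ∑ i : Fin (Q.natDegree + 1), Polynomial.C (Q.coeff i) * Polynomial.X ^ (Q.natDegree - i), ?_, ?_⟩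
  · refine Polynomial.monic_X_pow_sub (lt_of_le_of_lt (Polynomial.degree_sum_le _ _) ?_)
    refine (Finset.sup_lt_iff (WithBot.bot_lt_coe _)).2 fun i _ => ?_
    refine lt_of_le_of_lt (Polynomial.degree_C_mul_X_pow_le _ _) ?_
    exact_mod_cast (Nat.lt_succ_of_le (Nat.sub_le _ _))
  · rw [Polynomial.eval₂_sub, Polynomial.eval₂_X_pow, Polynomial.eval₂_finsetSum, sub_eq_zero, pow_succ]
    nth_rewrite 2 [← hQ]
    rw [Polynomial.aeval_eq_sum_range, Finset.mul_sum, ← Fin.sum_univ_eq_sum_range]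
    refine Finset.sum_congr rfl fun i _ => ?_
    rw [Polynomial.eval₂_mul, Polynomial.eval₂_C, Polynomial.eval₂_X_pow, Algebra.smul_def, inv_pow, ← mul_assoc,
      mul_comm (b ^ Q.natDegree) (algebraMap C K _), mul_assoc, pow_sub₀ b hb (Nat.le_of_lt_succ i.2)]

variable {k : Type u} [Field k] [IsAlgClosed k] [CharZero k] {A : Type u} [CommRing A] [HopfAlgebra k A]
  [Algebra.FiniteType k A] {J : Type u} [Fintype J] [DecidableEq J]

theorem isIntegral_orbit (hLR : HopfRep.IsLinearlyReductive k A) {M : Matrix J J A}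
    (hM : Comod.IsCorep (k := k) M) [IsReduced A] (u : J → k) (φ : MvPolynomial J k →ₐ[k] A)
    (hφ : ∀ {K : Type u} [CommRing K] [Algebra k K] (ψ : A →ₐ[k] K) (i : J),
      ψ (φ (MvPolynomial.X i)) = mv M ψ u i)
    (hbad : ∀ lam : A →ₐc[k] k[T;T⁻¹], ¬ SGA3t2b.IsTrivialBialgHom lam →
      ¬ ∀ i, NoNeg 0 (mv M (lam : A →ₐ[k] k[T;T⁻¹]) u i)) :
    φ.toRingHom.IsIntegral := by
  classical
  haveI : IsNoetherianRing A := Algebra.FiniteType.isNoetherianRing k _
  intro a
  suffices H : ∀ p ∈ minimalPrimes A, ∃ Q : Polynomial (MvPolynomial J k), Q.Monic ∧ Q.eval₂ φ.toRingHom a ∈ p by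
    choose Q hQm hQp using H
    refine ⟨∏ p ∈ (minimalPrimes.finite_of_isNoetherianRing A).toFinset.attach,
      Q p.1 ((minimalPrimes.finite_of_isNoetherianRing A).mem_toFinset.1 p.2),
      Polynomial.monic_prod_of_monic _ _ fun p _ => hQm _ _, ?_⟩
    rw [Polynomial.eval₂_finsetProd]
    have h : ∀ p ∈ minimalPrimes A, (∏ q ∈ (minimalPrimes.finite_of_isNoetherianRing A).toFinset.attach,
        (Q q.1 ((minimalPrimes.finite_of_isNoetherianRing A).mem_toFinset.1 q.2)).eval₂ φ.toRingHom a) ∈ p :=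
      fun p hp => Ideal.mem_of_dvd _ (Finset.dvd_prod_of_mem _ (Finset.mem_attach _
        ⟨p, (minimalPrimes.finite_of_isNoetherianRing A).mem_toFinset.2 hp⟩)) (hQp p hp)
    refine (nilradical_eq_zero A).le ?_
    rw [nilradical, ← Ideal.sInf_minimalPrimes, Submodule.mem_sInf]
    exact h
  intro p hp
  haveI : p.IsPrime := hp.1.1
  let K := FractionRing (A ⧸ p)
  let ψ : A →ₐ[k] K := (IsScalarTower.toAlgHom k (A ⧸ p) K).comp (Ideal.Quotient.mkₐ k p)
  let C : Subalgebra k K := (ψ.comp φ).range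
  by_cases hint : IsIntegral C (ψ a)
  · obtain ⟨Q, hQ, hQa⟩ := hint
    let π : MvPolynomial J k →+* C := (ψ.comp φ).rangeRestrict.toRingHom
    obtain ⟨Q', hQ', -, hQm⟩ := Polynomial.lifts_and_degree_eq_and_monic (f := π) (p := Q)
      (Polynomial.mem_lifts Q |>.2 (Polynomial.map_surjective _ (AlgHom.rangeRestrict_surjective _) Q)) hQ
    refine ⟨Q', hQm, ?_⟩
    have h0 : ψ.toRingHom (Q'.eval₂ φ.toRingHom a) = 0 := by
      rw [Polynomial.hom_eval₂, ← hQa, ← hQ', Polynomial.eval₂_map]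
      rfl
    have h1 : algebraMap (A ⧸ p) K (Ideal.Quotient.mk p (Q'.eval₂ φ.toRingHom a)) = 0 := h0
    rwa [map_eq_zero_iff _ (IsFractionRing.injective _ K), Ideal.Quotient.eq_zero_iff_mem] at h1
  exfalso
  set b := ψ a
  have hb : b ≠ 0 := fun h0 => hint (by rw [h0]; exact isIntegral_zero)
  let S₀ : Subalgebra k K := (Algebra.adjoin C {b⁻¹}).restrictScalars k
  have hbS : b⁻¹ ∈ S₀ := Algebra.self_mem_adjoin_singleton C b⁻¹
  have hCS : ∀ x, ψ (φ x) ∈ S₀ := fun x =>
    (Algebra.adjoin C {b⁻¹}).algebraMap_mem ⟨_, ⟨x, rfl⟩⟩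
  haveI : Algebra.FiniteType k S₀ := by
    refine (Subalgebra.fg_iff_finiteType S₀).1 ?_
    refine ⟨Finset.univ.image (fun i => ψ (φ (MvPolynomial.X i))) ∪ {b⁻¹}, le_antisymm ?_ ?_⟩
    · refine Algebra.adjoin_le ?_
      intro x hx
      rcases Finset.mem_union.1 hx with hx | hx
      · obtain ⟨i, -, rfl⟩ := Finset.mem_image.1 hx
        exact hCS _
      · obtain rfl := Finset.mem_singleton.1 hx
        exact hbS
    · intro x hx
      change x ∈ Algebra.adjoin C {b⁻¹} at hx
      induction hx using Algebra.adjoin_induction with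
      | mem x hx => exact Algebra.subset_adjoin (Finset.mem_union_right _ (Finset.mem_singleton.2 hx))
      | algebraMap c =>
        obtain ⟨_, ⟨P, rfl⟩⟩ := c
        show ψ (φ P) ∈ _
        induction P using MvPolynomial.induction_on with
        | C q =>
          rw [show (MvPolynomial.C q : MvPolynomial J k) = algebraMap k _ q from rfl, AlgHom.commutes, AlgHom.commutes]
          exact Subalgebra.algebraMap_mem _ q
        | add P Q hP hQ => rw [map_add, map_add]; exact add_mem hP hQ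
        | mul_X P i hP =>
          rw [map_mul, map_mul]
          exact mul_mem hP (Algebra.subset_adjoin
            (Finset.mem_union_left _ (Finset.mem_image_of_mem _ (Finset.mem_univ i))))
      | add x y _ _ hx hy => exact add_mem hx hy
      | mul x y _ _ hx hy => exact mul_mem hx hy
  have hne : Ideal.span {(⟨b⁻¹, hbS⟩ : S₀)} ≠ ⊤ := fun htop => by
    obtain ⟨c, hc⟩ := Ideal.mem_span_singleton'.1 ((Ideal.eq_top_iff_one _).1 htop)
    have h1 : (c : K) * b⁻¹ = 1 := congrArg Subtype.val hc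
    have h2 : (c : K) = b := eq_of_mul_inv_eq_one h1
    have h3 : (c : K) ∈ Algebra.adjoin C {b⁻¹} := c.2
    rw [h2] at h3
    exact hint (isIntegral_of_mem_adjoin_inv hb h3)
  obtain ⟨I, hI, hle⟩ := Ideal.exists_le_maximal _ hne
  obtain ⟨φ₀, hφ₀⟩ := GLinFree.exists_point_of_maximal (k := k) I
  obtain ⟨V, hV, hS, res, hres, hres₀, hker⟩ := exists_rational_place S₀ φ₀
  have hbV : b ∉ V := fun hbV => by
    have h1 : res ⟨b⁻¹, hS _ hbS⟩ = 0 := by
      rw [hres₀ _ hbS]
      exact RingHom.mem_ker.1 (hφ₀ ▸ hle (Ideal.mem_span_singleton_self _) : (⟨b⁻¹, hbS⟩ : S₀) ∈ RingHom.ker φ₀)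
    have h2 : res (⟨b⁻¹, hS _ hbS⟩ * ⟨b, hbV⟩) = 1 := by
      rw [show (⟨b⁻¹, hS _ hbS⟩ * ⟨b, hbV⟩ : V) = 1 from Subtype.ext (inv_mul_cancel₀ hb), map_one]
    rw [map_mul, h1, zero_mul] at h2
    exact zero_ne_one h2
  obtain ⟨N, q, hq⟩ := exists_surj_SLn (k := k) A
  obtain ⟨i₁, j₁, hij⟩ : ∃ i j, ψ (qa q (SLn.X i j)) ∉ V := by
    by_contra hall
    push Not at hall
    letI : Algebra k V := GLForms.scalarAlg V hV
    let ι' : V →ₐ[k] K := ⟨V.subtype, fun c => rfl⟩
    let W : Matrix (Fin (N + 1)) (Fin (N + 1)) V := fun i j => ⟨_, hall i j⟩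
    have hWd : W.det = 1 := by
      refine Subtype.ext ?_
      show V.subtype W.det = 1
      rw [V.subtype.map_det]
      exact det_mat (ψ.comp (qa q))
    have hψ : ι'.comp (SLn.pt (N + 1) k W hWd) = ψ.comp (qa q) :=
      point_ext (Matrix.ext fun i j => congrArg ι' (SLn.pt_X W hWd i j))
    obtain ⟨c, hc⟩ := hq a
    refine hbV ?_
    rw [show b = ι' (SLn.pt (N + 1) k W hWd c) by
      rw [← AlgHom.comp_apply, hψ]
      exact congrArg ψ hc.symm]
    exact (SLn.pt (N + 1) k W hWd c).2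
  have hmem : ∀ i, mv M ψ u i ∈ V := fun i => hS _ (hφ ψ i ▸ hCS _)
  letI := PsRefl.linComod hM
  haveI := PsRefl.isCoactAlg_linComod hM
  obtain ⟨lam, h1, h2, -⟩ := exists_lam_of_valuation q hq hLR hM V hV ψ hij u (fun i => res ⟨_, hmem i⟩) fun i => by
    have h : (⟨_, hmem i⟩ - ⟨_, hV (res ⟨_, hmem i⟩)⟩ : V) ∈ IsLocalRing.maximalIdeal V := by
      rw [← hker, RingHom.mem_ker, map_sub, hres, sub_self]
    exact (V.valuation_lt_one_iff _).1 h
  exact hbad lam h1 h2

end Groth.Agent.HMBr
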