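import Groth.Agent.HMu.Weights
import Groth.Agent.GITss.Avoid
import Groth.Agent.HMu.Exists

/-!
# Translates of weight functions
-/

set_option autoImplicit false
set_option backward.isDefEq.respectTransparency false
set_option linter.style.haveILetI false
set_option linter.unusedSectionVars false

universe u

open CategoryTheory CategoryTheory.Limits MonoidalCategory CartesianMonoidalCategory MonObj AlgebraicGeometry Opposite
open TopologicalSpace Groth.Agent.HMu

noncomputable section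

namespace Groth.Agent.HMBr

variable {k : Type u} [Field k] {G X : Over (Spec (CommRingCat.of k))} [GrpObj G] {a : AlgGrp.Action G X}
  (B : GLinSh.LinBun G a)

/-- Functions as an algebra over the field. -/
abbrev galg (Z : Over (Spec (CommRingCat.of k))) : Algebra k Γ(Z.left, ⊤) := (csts Z).toAlgebra

/-- The translation of the total space by a point. -/
def tr (g : Pt G) : B.V ⟶ B.V := lift (cst g B.V) (𝟙 _) ≫ B.lift.act

variable {B} in
/-- The translation of the base by a point. -/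
def trX (a : AlgGrp.Action G X) (g : Pt G) : X ⟶ X := lift (cst g X) (𝟙 _) ≫ a.act

theorem tr_π (g : Pt G) : tr B g ≫ B.π = B.π ≫ trX a g := by
  rw [tr, trX, act_π, Category.id_comp, comp_lift_assoc, comp_cst, Category.comp_id]

theorem tr_comp (g h : Pt G) : tr B g ≫ tr B h = tr B (h * g) := by
  rw [tr, tr, Category.assoc, comp_lift_assoc, comp_lift_assoc, comp_cst, comp_cst, Category.comp_id, act_act]
  simp only [tr, cst, MonObj.comp_mul]

theorem tr_one : tr B 1 = 𝟙 _ := by
  rw [tr, show cst (1 : Pt G) B.V = 1 from MonObj.comp_one _, one_act]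

theorem trX_comp (g h : Pt G) : trX a g ≫ trX a h = trX a (h * g) := by
  rw [trX, trX, Category.assoc, comp_lift_assoc, comp_lift_assoc, comp_cst, comp_cst, Category.comp_id, act_act]
  simp only [trX, cst, MonObj.comp_mul]

theorem trX_one : trX a (1 : Pt G) = 𝟙 _ := by
  rw [trX, show cst (1 : Pt G) X = 1 from MonObj.comp_one _, one_act]

instance isIso_trX (g : Pt G) : IsIso (trX a g) :=
  ⟨trX a g⁻¹, by rw [trX_comp, inv_mul_cancel, trX_one], by rw [trX_comp, mul_inv_cancel, trX_one]⟩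

instance isIso_tr (g : Pt G) : IsIso (tr B g) :=
  ⟨tr B g⁻¹, by rw [tr_comp, inv_mul_cancel, tr_one], by rw [tr_comp, mul_inv_cancel, tr_one]⟩

theorem comp_tr (v : Pt B.V) (g : Pt G) : v ≫ tr B g = lift g v ≫ B.lift.act := by
  rw [tr, comp_lift_assoc, comp_cst, Category.comp_id, cst, toUnit_unique (toUnit _) (𝟙 _), Category.id_comp]

/-- The translate of a function: `v ↦ f(g · v)`. -/
def tf (g : Pt G) : Γ(B.V.left, ⊤) →+* Γ(B.V.left, ⊤) := (tr B g).left.appTop.hom

theorem tf_csts (g : Pt G) (c : k) : tf B g (csts B.V c) = csts B.V c :=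
  RingHom.congr_fun (appTop_comp_csts (tr B g)) c

theorem tf_tf (g h : Pt G) (f : Γ(B.V.left, ⊤)) : tf B g (tf B h f) = tf B (h * g) f := by
  show (tr B g).left.appTop ((tr B h).left.appTop f) = (tr B (h * g)).left.appTop f
  rw [← tr_comp]
  exact (GmPts.appTop_comp_apply _ _ _).symm

theorem tf_one (f : Γ(B.V.left, ⊤)) : tf B 1 f = f := by
  show (tr B 1).left.appTop f = f
  rw [tr_one]; rfl

theorem val_tf (g : Pt G) (f : Γ(B.V.left, ⊤)) (v : Pt B.V) :
    val (U := ⊤) (tf B g f) v trivial = val (U := ⊤) f (lift g v ≫ B.lift.act) trivial := by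
  rw [← val_congr' (U := ⊤) f (comp_tr B v g) trivial trivial]
  exact val_appTop _ f v

theorem nonvanishing_tf (g : Pt G) (f : Γ(B.V.left, ⊤)) :
    GLinSh.nonvanishing B.π (tf B g f) = (trX a g).left ⁻¹' GLinSh.nonvanishing B.π f := by
  haveI : IsIso (tr B g).left := inferInstanceAs (IsIso ((Over.forget _).map (tr B g)))
  have hb : B.V.left.basicOpen (tf B g f) = (tr B g).left ⁻¹ᵁ B.V.left.basicOpen f :=
    (Scheme.preimage_basicOpen_top _ f).symm
  have hπ : ∀ w, B.π.left ((tr B g).left w) = (trX a g).left (B.π.left w) := fun w => by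
    rw [← Scheme.Hom.comp_apply, ← Scheme.Hom.comp_apply, ← Over.comp_left, ← Over.comp_left, tr_π]
  ext x
  constructor
  · rintro ⟨w, hw, rfl⟩
    exact ⟨(tr B g).left w, by rw [SetLike.mem_coe, hb] at hw; exact hw, hπ w⟩
  · rintro ⟨w, hw, hwx⟩
    obtain ⟨w', rfl⟩ := (tr B g).left.homeomorph.surjective w
    haveI : IsIso (trX a g).left := inferInstanceAs (IsIso ((Over.forget _).map (trX a g)))
    refine ⟨w', by rw [SetLike.mem_coe, hb]; exact hw, (trX a g).left.homeomorph.injective ?_⟩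
    exact (hπ w').symm.trans hwx

theorem isAffineOpen_tf (g : Pt G) {f : Γ(B.V.left, ⊤)} {U U' : X.left.Opens}
    (hU : (U : Set X.left) = GLinSh.nonvanishing B.π f) (haff : IsAffineOpen U)
    (hU' : (U' : Set X.left) = GLinSh.nonvanishing B.π (tf B g f)) : IsAffineOpen U' := by
  haveI : IsIso (trX a g).left := inferInstanceAs (IsIso ((Over.forget _).map (trX a g)))
  have : U' = (trX a g).left ⁻¹ᵁ U := Opens.ext (by
    rw [hU', nonvanishing_tf]
    show _ = (trX a g).left ⁻¹' (U : Set X.left)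
    rw [hU])
  rw [this]
  exact haff.preimage_of_isIso _

variable {B}

/-- Coefficients in a chart are unique. -/
theorem coeff_ext_open {U : X.left.Opens} {y : Γ(B.V.left, B.π.left ⁻¹ᵁ U)} (hy : y ∈ B.atlas.chart U) (n : ℕ)
    {O : X.left.Opens} (hO : O ≤ U) {c c' : Γ(X.left, O)}
    (h : B.π.left.app O c * GLinSh.res B.π hO y ^ n = B.π.left.app O c' * GLinSh.res B.π hO y ^ n) : c = c' := by
  choose W hW hxW hWO' using fun x : O => exists_isAffineOpen_mem_and_subset (x := x.1) (U := O) x.2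
  have hWO : ∀ x, W x ≤ O := fun x => hWO' x
  refine X.left.sheaf.eq_of_locally_eq' W O (fun x => homOfLE (hWO x))
    (fun z hz => Opens.mem_iSup.2 ⟨⟨z, hz⟩, hxW ⟨z, hz⟩⟩) c c' fun x => ?_
  have hbij := B.atlas.coord U y hy (W x) (hW x) (le_trans (hWO x) hO)
  have h1 := congrArg (GLinSh.res B.π (show W x ≤ O from hWO x)) h
  have e : ∀ d : Γ(X.left, O), GLinSh.res B.π (show W x ≤ O from hWO x) (B.π.left.app O d * GLinSh.res B.π hO y ^ n) =
      B.π.left.app (W x) (X.left.presheaf.map (homOfLE (show W x ≤ O from hWO x)).op d) *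
        GLinSh.res B.π (le_trans (hWO x) hO) y ^ n := fun d => by
    rw [GITss.res_mul, GITss.res_app]
    refine congrArg _ ((map_pow (B.V.left.presheaf.map _).hom _ _).trans ?_)
    exact congrArg (· ^ n) (GITss.res_res hO (hWO x) y)
  have h2 : Polynomial.C ((X.left.presheaf.map (homOfLE (show W x ≤ O from hWO x)).op) c) * Polynomial.X ^ n =
      Polynomial.C ((X.left.presheaf.map (homOfLE (show W x ≤ O from hWO x)).op) c') * Polynomial.X ^ n := by
    refine hbij.injective ?_
    simp only [Polynomial.coe_eval₂RingHom, Polynomial.eval₂_mul, Polynomial.eval₂_C, Polynomial.eval₂_X_pow]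
    exact (e c).symm.trans (h1.trans (e c'))
  have h3 := congrArg (fun p => Polynomial.coeff p n) h2
  simp only [Polynomial.coeff_C_mul, Polynomial.coeff_X_pow, if_true, _root_.mul_one] at h3
  exact h3

variable (B)

/-- Translates of weight functions are weight functions. -/
theorem hasWeight_tf (g : Pt G) {n : ℕ} {f : Γ(B.V.left, ⊤)} (hf : GLinSh.HasWeight B.atlas.chart n f) :
    GLinSh.HasWeight B.atlas.chart n (tf B g f) := by
  intro U y hy
  have hloc : ∀ x : U, ∃ O : X.left.Opens, ∃ hO : O ≤ U, x.1 ∈ O ∧ ∃ c : Γ(X.left, O),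
      GLinSh.resTop B.π O (tf B g f) = B.π.left.app O c * GLinSh.res B.π hO y ^ n := by
    intro x
    obtain ⟨U', hU', y', hy'⟩ := B.atlas.cover ((trX a g).left x.1)
    obtain ⟨d, hd⟩ := hf U' y' hy'
    obtain ⟨c, hc⟩ := B.lift_linear U U' y y' hy hy'
    let O := U ⊓ (trX a g).left ⁻¹ᵁ U'
    refine ⟨O, inf_le_left, ⟨x.2, hU'⟩, ?_⟩
    let p := lift (cst g X) (𝟙 X)
    let q := lift (cst g B.V) (𝟙 B.V)
    have hp : O ≤ p.left ⁻¹ᵁ (a.act.left ⁻¹ᵁ U' ⊓ (snd G X).left ⁻¹ᵁ U) := by
      intro z hz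
      refine ⟨hz.2, ?_⟩
      show (snd G X).left (p.left z) ∈ U
      rw [← Scheme.Hom.comp_apply, ← Over.comp_left, lift_snd]
      exact hz.1
    have hqp : q ≫ (G ◁ B.π) = B.π ≫ p := by
      rw [lift_whiskerLeft, comp_lift, comp_cst, Category.comp_id, Category.id_comp]
    have hq : B.π.left ⁻¹ᵁ O ≤ q.left ⁻¹ᵁ GLinSh.liftOpen a B.π U U' := by
      intro z hz
      show (G ◁ B.π).left (q.left z) ∈ a.act.left ⁻¹ᵁ U' ⊓ (snd G X).left ⁻¹ᵁ U
      rw [← Scheme.Hom.comp_apply, ← Over.comp_left, hqp]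
      exact hp hz
    have hO : O ≤ (trX a g).left ⁻¹ᵁ U' := inf_le_right
    refine ⟨(trX a g).left.appLE U' O hO d * (p.left.appLE _ O hp c) ^ n, ?_⟩
    have htr : B.π.left ⁻¹ᵁ O ≤ (tr B g).left ⁻¹ᵁ (B.π.left ⁻¹ᵁ U') := by
      intro z hz
      show B.π.left ((tr B g).left z) ∈ U'
      rw [← Scheme.Hom.comp_apply, ← Over.comp_left, tr_π]
      exact hz.2
    -- the coordinate
    have h1 := congrArg (q.left.appLE (GLinSh.liftOpen a B.π U U') (B.π.left ⁻¹ᵁ O) hq) hc
    simp only [map_mul, ← CommRingCat.comp_apply, Scheme.Hom.appLE_comp_appLE] at h1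
    have hy1 : (tr B g).left.appLE (B.π.left ⁻¹ᵁ U') (B.π.left ⁻¹ᵁ O) htr y' =
        B.π.left.app O (p.left.appLE _ O hp c) * GLinSh.res B.π inf_le_left y := by
      refine Eq.trans ?_ (h1.trans ?_)
      · rfl
      · refine congrArg₂ (· * ·) ((appLE_eq (congrArg CategoryTheory.CommaMorphism.left hqp) _ _ _ _).trans ?_)
          ((appLE_eq (congrArg CategoryTheory.CommaMorphism.left (lift_snd (cst g B.V) (𝟙 B.V))) _ _ _ _).trans ?_)
        · rw [Scheme.Hom.app_eq_appLE, ← ConcreteCategory.comp_apply, Scheme.Hom.appLE_comp_appLE]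
          rfl
        · simp [GLinSh.res, Scheme.Hom.appLE, O]
    have h2 := congrArg ((tr B g).left.appLE (B.π.left ⁻¹ᵁ U') (B.π.left ⁻¹ᵁ O) htr) hd
    rw [map_mul, map_pow, hy1, mul_pow, ← map_pow, ← _root_.mul_assoc] at h2
    rw [map_mul]
    refine Eq.trans ?_ (h2.trans ?_)
    · simp only [GLinSh.resTop, tf, ← ConcreteCategory.comp_apply, Scheme.Hom.map_appLE, Scheme.Hom.appTop,
        Scheme.Hom.app_eq_appLE, Scheme.Hom.appLE_map]
    · congr 2
      rw [Scheme.Hom.app_eq_appLE, Scheme.Hom.app_eq_appLE, ← ConcreteCategory.comp_apply,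
        ← ConcreteCategory.comp_apply, Scheme.Hom.appLE_comp_appLE, Scheme.Hom.appLE_comp_appLE]
      exact appLE_eq (congrArg CategoryTheory.CommaMorphism.left (tr_π B g)) _ _ _ _
  choose O hOU hxO c hc using hloc
  have key : ∀ {W O' : X.left.Opens} (h : W ≤ O') (h' : O' ≤ U) {s : Γ(B.V.left, ⊤)} {d : Γ(X.left, O')},
      GLinSh.resTop B.π O' s = B.π.left.app O' d * GLinSh.res B.π h' y ^ n →
      GLinSh.resTop B.π W s = B.π.left.app W (X.left.presheaf.map (homOfLE h).op d) *
        GLinSh.res B.π (h.trans h') y ^ n := fun {W O'} h h' {s d} e => by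
    rw [← GITss.res_resTop h, e, GITss.res_mul, GITss.res_app]
    refine congrArg _ ((map_pow (B.V.left.presheaf.map _).hom _ _).trans ?_)
    exact congrArg (· ^ n) (GITss.res_res h' h y)
  obtain ⟨r, hr, -⟩ := X.left.sheaf.existsUnique_gluing' O U (fun x => homOfLE (hOU x))
    (fun z hz => Opens.mem_iSup.2 ⟨⟨z, hz⟩, hxO ⟨z, hz⟩⟩) c fun x x' => by
      refine coeff_ext_open hy n (inf_le_left.trans (hOU x)) ?_
      exact ((key (inf_le_left : O x ⊓ O x' ≤ O x) (hOU x) (hc x)).symm.trans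
        (key (inf_le_right : O x ⊓ O x' ≤ O x') (hOU x') (hc x')))
  refine ⟨r, ?_⟩
  refine B.V.left.sheaf.eq_of_locally_eq' (fun x => B.π.left ⁻¹ᵁ O x) (B.π.left ⁻¹ᵁ U)
    (fun x => homOfLE (B.π.left.preimage_mono (hOU x)))
    (fun v hv => Opens.mem_iSup.2 ⟨⟨B.π.left v, hv⟩, hxO ⟨B.π.left v, hv⟩⟩) _ _ fun x => ?_
  show GLinSh.res B.π (hOU x) _ = GLinSh.res B.π (hOU x) _
  rw [GITss.res_mul, GITss.res_app, GITss.res_resTop]
  have hrx : X.left.presheaf.map (homOfLE (hOU x)).op r = c x := hr x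
  rw [hrx]
  exact (hc x).trans (congrArg _ (map_pow (B.V.left.presheaf.map _).hom _ _).symm)

end Groth.Agent.HMBr
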