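import Groth.Agent.HMBr.Ops
import Groth.Agent.HMBr.Translate
import Groth.Agent.GammaProd.QAGroup
import Groth.Agent.GammaProd.Basic
import Groth.Agent.FinHopf.PerfTensor
import Groth.Agent.GLinFree.ClosedFinite
import Groth.Agent.LimMore.SepCore
import Groth.Agent.HMCrit.Main

/-!
# A finite representation by weight functions
-/

set_option autoImplicit false
set_option backward.isDefEq.respectTransparency false
set_option linter.style.haveILetI false
set_option linter.unusedSectionVars false

universe u

open CategoryTheory CategoryTheory.Limits MonoidalCategory CartesianMonoidalCategory MonObj AlgebraicGeometry Opposite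
open TopologicalSpace Groth.Agent.HMu Groth.Agent.HMCrit
open scoped TensorProduct

noncomputable section

namespace Groth.Agent.HMBr

variable {k : Type u} [Field k]

/-- Functions on a product are sums of products. -/
theorem exists_sum_prod (P Q : Over (Spec (CommRingCat.of k))) [CompactSpace P.left] [P.left.IsSeparated]
    [CompactSpace Q.left] [QuasiSeparatedSpace Q.left] (s : Γ((P ⊗ Q).left, ⊤)) :
    ∃ (n : ℕ) (a : Fin n → Γ(P.left, ⊤)) (b : Fin n → Γ(Q.left, ⊤)),
      s = ∑ r, (snd P Q).left.appTop (b r) * (fst P Q).left.appTop (a r) := by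
  haveI : Flat P.hom := inferInstance
  have hpo := GammaProd.isPushout_appTop (p := (fst P Q).left) (q := (snd P Q).left)
    (GammaProd.flat_appTop_field Q.hom) (IsPullback.of_hasPullback P.hom Q.hom)
  let H : AddSubmonoid Γ((P ⊗ Q).left, ⊤) := AddSubmonoid.closure (Set.range fun ab : Γ(P.left, ⊤) × Γ(Q.left, ⊤) =>
    (snd P Q).left.appTop ab.2 * (fst P Q).left.appTop ab.1)
  have hH : ∀ t ∈ H, ∃ (n : ℕ) (a : Fin n → Γ(P.left, ⊤)) (b : Fin n → Γ(Q.left, ⊤)),
      t = ∑ r, (snd P Q).left.appTop (b r) * (fst P Q).left.appTop (a r) := fun t ht => by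
    induction ht using AddSubmonoid.closure_induction with
    | mem t ht => obtain ⟨⟨a, b⟩, rfl⟩ := ht; exact ⟨1, fun _ => a, fun _ => b, by simp⟩
    | zero => exact ⟨0, Fin.elim0, Fin.elim0, by simp⟩
    | add x y _ _ hx hy =>
      obtain ⟨n, a, b, rfl⟩ := hx
      obtain ⟨m, a', b', rfl⟩ := hy
      refine ⟨n + m, Fin.append a a', Fin.append b b', ?_⟩
      rw [Fin.sum_univ_add]
      simp
  refine hH s ?_
  have hcl : Subring.closure (Set.range (fst P Q).left.appTop ∪ Set.range (snd P Q).left.appTop) = ⊤ :=
    LimMore.closure_eq_top_of_isPushout hpo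
  let R : Subring Γ((P ⊗ Q).left, ⊤) :=
    { H with
      one_mem' := AddSubmonoid.subset_closure ⟨(1, 1), by simp only [map_one]; exact _root_.one_mul _⟩
      neg_mem' := fun {t} (ht : t ∈ H) => by
        show -t ∈ H
        induction ht using AddSubmonoid.closure_induction with
        | mem t ht =>
          obtain ⟨⟨a, b⟩, rfl⟩ := ht
          exact AddSubmonoid.subset_closure ⟨(-a, b), by simp only [map_neg, mul_neg]⟩
        | zero => rw [neg_zero]; exact H.zero_mem
        | add x y _ _ hx hy => rw [neg_add]; exact add_mem hx hy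
      mul_mem' := fun {x y} hx hy => by
        induction hx using AddSubmonoid.closure_induction with
        | mem x hx =>
          induction hy using AddSubmonoid.closure_induction with
          | mem y hy =>
            obtain ⟨⟨a, b⟩, rfl⟩ := hx
            obtain ⟨⟨a', b'⟩, rfl⟩ := hy
            exact AddSubmonoid.subset_closure ⟨(a * a', b * b'), by simp only [map_mul]; ring⟩
          | zero => rw [mul_zero]; exact H.zero_mem
          | add y z _ _ h1 h2 => rw [mul_add]; exact H.add_mem h1 h2
        | zero => rw [zero_mul]; exact H.zero_mem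
        | add x z _ _ h1 h2 => rw [add_mul]; exact H.add_mem h1 h2 }
  have hle : Subring.closure (Set.range (fst P Q).left.appTop ∪ Set.range (snd P Q).left.appTop) ≤ R := by
    refine Subring.closure_le.2 ?_
    rintro t (⟨a, rfl⟩ | ⟨b, rfl⟩)
    · exact AddSubmonoid.subset_closure ⟨(a, 1), by simp only [map_one]; exact _root_.one_mul _⟩
    · exact AddSubmonoid.subset_closure ⟨(1, b), by simp only [map_one]; exact _root_.mul_one _⟩
  exact hle (hcl ▸ Subring.mem_top s)

variable {G X : Over (Spec (CommRingCat.of k))} [GrpObj G] {a : AlgGrp.Action G X} (B : GLinSh.LinBun G a)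
variable {A : Type u} [CommRing A] [HopfAlgebra k A] (e : CoactBr.sp k A ≅ G)

/-- A finite representation on weight functions with affine non-vanishing loci. -/
structure LinData where
  J : Type u
  [fin : Fintype J]
  [dec : DecidableEq J]
  N : ℕ
  F : J → Γ(B.V.left, ⊤)
  hF : ∀ i, GLinSh.HasWeight B.atlas.chart N (F i)
  aff : ∀ i, ∃ U : X.left.Opens, (U : Set X.left) = GLinSh.nonvanishing B.π (F i) ∧ IsAffineOpen U
  M : Matrix J J A
  corep : Comod.IsCorep (k := k) M
  act_eq : ∀ j, B.lift.act.left.appTop (F j) =
    ∑ i, (snd G B.V).left.appTop (F i) * (fst G B.V).left.appTop (fnG e (HopfAlgebra.antipodeAlgHom k A (M i j)))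

attribute [instance] LinData.fin LinData.dec

variable {B e}

/-- The coordinates of a point of the total space. -/
def LinData.vec (L : LinData B e) (v : Pt B.V) (i : L.J) : k := val (U := ⊤) (L.F i) v trivial

theorem LinData.vec_act [IsMonHom e.hom] (L : LinData B e) (g : Pt G) (v : Pt B.V) :
    L.vec (lift g v ≫ B.lift.act) = mv L.M (ev e g⁻¹) (L.vec v) := by
  funext j
  have h1 := congrArg (valHom (lift g v) (U := ⊤) trivial) (L.act_eq j)
  rw [map_sum, valHom_apply, val_appTop B.lift.act (L.F j)] at h1
  refine (val_congr' (U := ⊤) (L.F j) rfl trivial trivial).trans (h1.trans ?_)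
  rw [mv, Matrix.vecMul, dotProduct]
  refine Finset.sum_congr rfl fun i _ => ?_
  rw [map_mul, valHom_apply, valHom_apply, val_appTop (snd G B.V), val_appTop (fst G B.V),
    val_congr' (U := ⊤) (L.F i) (lift_snd g v) trivial trivial,
    val_congr' (U := ⊤) (fnG e (HopfAlgebra.antipodeAlgHom k A (L.M i j))) (lift_fst g v) trivial trivial]
  show L.vec v i * ev e g (HopfAlgebra.antipodeAlgHom k A (L.M i j)) = _
  rw [Matrix.map_apply, Algebra.algebraMap_self, RingHom.id_apply, ev_inv]
  rfl

variable (B e)

theorem antipode_antipode [IsMonHom e.hom] [IsAlgClosed k] [Algebra.FiniteType k A] [IsReduced A] (x : A) :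
    HopfAlgebra.antipodeAlgHom k A (HopfAlgebra.antipodeAlgHom k A x) = x := by
  refine sub_eq_zero.1 (GLinFree.eq_zero_of_points (k := k) fun g => ?_)
  have h : pinv (pinv g) = g := pp_injective e (by rw [pp_inv, pp_inv, inv_inv])
  rw [map_sub, sub_eq_zero]
  exact DFunLike.congr_fun h x

theorem tr_eq (g : Pt G) : tr B g = lift (cst g B.V) (𝟙 _) ≫ B.lift.act := rfl

theorem val_csts_eq (c : Γ(G.left, ⊤)) (g : Pt G) :
    (cst g B.V).left.appTop c = csts B.V (val (U := ⊤) c g trivial) := by
  show (toUnit B.V ≫ g).left.appTop c = _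
  rw [Over.comp_left, GmPts.appTop_comp_apply, val, appLE_top, ← appTop_comp_csts (toUnit B.V)]
  show _ = (toUnit B.V).left.appTop (csts _ _)
  congr 1
  show _ = ((Scheme.ΓSpecIso (CommRingCat.of k)).inv ≫ (𝟙_ (Over (Spec (CommRingCat.of k)))).hom.appTop) _
  rw [show (𝟙_ (Over (Spec (CommRingCat.of k)))).hom = 𝟙 _ from rfl, Scheme.Hom.id_appTop]
  exact (Iso.hom_inv_id_apply (Scheme.ΓSpecIso (CommRingCat.of k)) _).symm

/-- Existence of a finite representation containing given functions. -/
theorem exists_linData [IsMonHom e.hom] [IsAlgClosed k] [CharZero k] [Algebra.FiniteType k A] [IsProper X.hom]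
    {N : ℕ} {κ : Type*} [Finite κ] (f : κ → Γ(B.V.left, ⊤)) (hf : ∀ l, GLinSh.HasWeight B.atlas.chart N (f l))
    (haff : ∀ l, ∃ U : X.left.Opens, (U : Set X.left) = GLinSh.nonvanishing B.π (f l) ∧ IsAffineOpen U) :
    ∃ L : LinData B e, L.N = N ∧ (∀ (l : κ) (v : Pt B.V), L.vec v = 0 → val (U := ⊤) (f l) v trivial = 0) ∧
      ∀ (l : κ), ∀ x ∈ GLinSh.nonvanishing B.π (f l), ∃ i, x ∈ GLinSh.nonvanishing B.π (L.F i) := by
  classical
  haveI : IsReduced A := HopfCartier.isReduced (k := k) (A := A)
  haveI := isAffine_left e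
  haveI : CompactSpace X.left := QuasiCompact.compactSpace_of_compactSpace X.hom
  haveI := GITss.isAffineHom_π (B := B)
  haveI : CompactSpace B.V.left := QuasiCompact.compactSpace_of_compactSpace B.π.left
  haveI : B.V.left.IsSeparated := by
    haveI : IsSeparated B.V.hom := by rw [← Over.w B.π]; infer_instance
    exact (Scheme.isSeparated_iff _).2 (by rw [← terminal.comp_from B.V.hom]; infer_instance)
  letI := galg (k := k) B.V
  have halg : ∀ (c : k) (s : Γ(B.V.left, ⊤)), c • s = csts B.V c * s := fun c s => rfl
  choose n aa bb hab using fun l => exists_sum_prod G B.V (B.lift.act.left.appTop (f l))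
  have htf : ∀ (g : Pt G) (s : Γ(B.V.left, ⊤)) (m : ℕ) (c : Fin m → Γ(G.left, ⊤)) (w : Fin m → Γ(B.V.left, ⊤)),
      B.lift.act.left.appTop s = ∑ r, (snd G B.V).left.appTop (w r) * (fst G B.V).left.appTop (c r) →
      tf B g s = ∑ r, val (U := ⊤) (c r) g trivial • w r := by
    intro g s m c w hs
    show (tr B g).left.appTop s = _
    rw [tr_eq, Over.comp_left, GmPts.appTop_comp_apply, hs, map_sum]
    refine Finset.sum_congr rfl fun r _ => ?_
    rw [map_mul, ← GmPts.appTop_comp_apply, ← GmPts.appTop_comp_apply, ← Over.comp_left, ← Over.comp_left, lift_snd,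
      lift_fst, val_csts_eq, halg, mul_comm]
    rfl
  let S : Set Γ(B.V.left, ⊤) := Set.range fun p : Pt G × κ => tf B p.1 (f p.2)
  let W : Submodule k Γ(B.V.left, ⊤) := Submodule.span k (Set.range fun p : Σ l, Fin (n l) => bb p.1 p.2)
  haveI : FiniteDimensional k W := FiniteDimensional.span_of_finite k (Set.finite_range _)
  have hSW : S ⊆ W := by
    rintro _ ⟨⟨g, l⟩, rfl⟩
    show tf B g (f l) ∈ W
    rw [htf g _ _ (aa l) (bb l) (hab l)]
    exact sum_mem fun r _ => Submodule.smul_mem _ _ (Submodule.subset_span ⟨⟨l, r⟩, rfl⟩)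
  obtain ⟨b, hbS, hbspan, hbli⟩ := exists_linearIndependent k S
  have hbfin : b.Finite := by
    have hle : Submodule.span k b ≤ W := Submodule.span_le.2 (hbS.trans hSW)
    haveI : FiniteDimensional k (Submodule.span k b) := Submodule.finiteDimensional_of_le hle
    haveI : Module.Finite k (Submodule.span k (Set.range ((↑) : b → Γ(B.V.left, ⊤)))) := by
      rw [Subtype.range_coe]; infer_instance
    exact Set.finite_coe_iff.1 (Module.Finite.finite_basis (Module.Basis.span hbli))
  haveI : Fintype b := hbfin.fintype
  let F : b → Γ(B.V.left, ⊤) := fun i => i.1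
  have hspan : Submodule.span k (Set.range F) = Submodule.span k S := by
    rw [← hbspan]; simp [F]
  let bas := Module.Basis.sumExtend hbli
  have hbas : ∀ i : b, bas (Sum.inl i) = F i := fun i => by
    simp [bas, Module.Basis.sumExtend, F]
    rfl
  -- all translates of the basis functions lie in the span
  have hmem : ∀ (g : Pt G) (j : b), tf B g (F j) ∈ Submodule.span k (Set.range F) := fun g j => by
    obtain ⟨⟨h, l⟩, hl⟩ := hbS j.2
    rw [hspan, show F j = tf B h (f l) from hl.symm, tf_tf]
    exact Submodule.subset_span ⟨(h * g, l), rfl⟩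
  have hexp : ∀ j : b, ∃ c : b → Γ(G.left, ⊤), B.lift.act.left.appTop (F j) =
      ∑ i, (snd G B.V).left.appTop (F i) * (fst G B.V).left.appTop (c i) := by
    intro j
    obtain ⟨m, c0, w, hw⟩ := exists_sum_prod G B.V (B.lift.act.left.appTop (F j))
    let coef : Fin m → _ →₀ k := fun r => bas.repr (w r)
    let T := Finset.univ.biUnion fun r => (coef r).support
    let c' := fun s => ∑ r, csts G (coef r s) * c0 r
    have hw' : B.lift.act.left.appTop (F j) =
        ∑ s ∈ T, (snd G B.V).left.appTop (bas s) * (fst G B.V).left.appTop (c' s) := by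
      rw [hw]
      have hr : ∀ r, w r = ∑ s ∈ T, coef r s • bas s := fun r => by
        conv_lhs => rw [← bas.linearCombination_repr (w r), Finsupp.linearCombination_apply]
        exact Finsupp.sum_of_support_subset _ (Finset.subset_biUnion_of_mem (fun r => (coef r).support)
          (Finset.mem_univ r)) _ fun s _ => zero_smul _ _
      have hcs : ∀ q : k, (snd G B.V).left.appTop (csts B.V q) = (fst G B.V).left.appTop (csts G q) := fun q =>
        (RingHom.congr_fun (appTop_comp_csts (snd G B.V)) q).trans
          (RingHom.congr_fun (appTop_comp_csts (fst G B.V)) q).symm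
      simp only [c', map_sum, map_mul, Finset.mul_sum]
      rw [Finset.sum_comm]
      refine Finset.sum_congr rfl fun r _ => ?_
      rw [hr r, map_sum, Finset.sum_mul]
      refine Finset.sum_congr rfl fun s _ => ?_
      rw [halg, map_mul, hcs]
      ring
    have hzero : ∀ s, (∀ i : b, s ≠ Sum.inl i) → s ∈ T → c' s = 0 := by
      intro s hs hsT
      obtain ⟨x, hx⟩ := fnG_surjective e (c' s)
      rw [← hx]
      suffices x = 0 by rw [this, map_zero]
      refine GLinFree.eq_zero_of_points (k := k) fun g => ?_
      rw [← val_fnG_pp e g x, hx]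
      have h1 : tf B (pp e g) (F j) = ∑ t ∈ T, val (U := ⊤) (c' t) (pp e g) trivial • bas t := by
        show (tr B (pp e g)).left.appTop _ = _
        rw [tr_eq, Over.comp_left, GmPts.appTop_comp_apply, hw', map_sum]
        refine Finset.sum_congr rfl fun t _ => ?_
        rw [map_mul, ← GmPts.appTop_comp_apply, ← GmPts.appTop_comp_apply, ← Over.comp_left, ← Over.comp_left,
          lift_snd, lift_fst, val_csts_eq, halg, mul_comm]
        rfl
      have h2 : bas.repr (tf B (pp e g) (F j)) s = 0 := by
        have h3 := hmem (pp e g) j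
        revert h3
        generalize tf B (pp e g) (F j) = z
        intro h3
        induction h3 using Submodule.span_induction with
        | mem z hz =>
          obtain ⟨i, rfl⟩ := hz
          rw [← hbas i, Module.Basis.repr_self, Finsupp.single_eq_of_ne (hs i)]
        | zero => simp
        | add p q _ _ hp hq => simp [hp, hq]
        | smul q p _ hp => rw [map_smul, Finsupp.smul_apply, hp, smul_zero]
      rw [h1, map_sum, Finsupp.finsetSum_apply, Finset.sum_eq_single s (fun t _ ht => by
        simp [Finsupp.single_eq_of_ne' ht]) (fun h => absurd hsT h)] at h2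
      simpa using h2
    refine ⟨fun i => if Sum.inl i ∈ T then c' (Sum.inl i) else 0, ?_⟩
    rw [hw', ← Finset.sum_subset (Finset.subset_univ (Finset.univ.filter fun i : b => Sum.inl i ∈ T))
      (fun i _ hi => by
        have hi' : Sum.inl i ∉ T := by simpa using hi
        simp only [if_neg hi', map_zero]
        exact mul_zero _)]
    rw [← Finset.sum_filter_of_ne (s := T) (p := fun s => ∃ i : b, s = Sum.inl i) (fun s hs h => by
      by_contra hne
      push Not at hne
      exact h (by rw [hzero s hne hs, map_zero, mul_zero]))]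
    refine (Finset.sum_bij (fun i _ => Sum.inl i) (fun i hi => by simpa using hi) (fun i _ i' _ h => Sum.inl_injective h)
      (fun s hs => by
        obtain ⟨hs, i, rfl⟩ := Finset.mem_filter.1 hs
        exact ⟨i, by simpa using hs, rfl⟩) fun i hi => ?_).symm
    have hi' : Sum.inl i ∈ T := by simpa using hi
    simp only [if_pos hi', hbas]
  choose c hc using hexp
  choose x hx using fun i j => fnG_surjective e (c j i)
  let M : Matrix b b A := Matrix.of fun i j => HopfAlgebra.antipodeAlgHom k A (x i j)
  have hact : ∀ j, B.lift.act.left.appTop (F j) = ∑ i, (snd G B.V).left.appTop (F i) *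
      (fst G B.V).left.appTop (fnG e (HopfAlgebra.antipodeAlgHom k A (M i j))) := fun j => by
    simp only [M, Matrix.of_apply, antipode_antipode e, hx]
    exact hc j
  -- the translates of the basis
  have hτ : ∀ (g : A →ₐ[k] k) (j : b), tf B (pp e g)⁻¹ (F j) = ∑ i, g (M i j) • F i := fun g j => by
    show (tr B _).left.appTop _ = _
    rw [tr_eq, Over.comp_left, GmPts.appTop_comp_apply, hact, map_sum]
    refine Finset.sum_congr rfl fun i _ => ?_
    rw [map_mul, ← GmPts.appTop_comp_apply, ← GmPts.appTop_comp_apply, ← Over.comp_left, ← Over.comp_left,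
      lift_snd, lift_fst, val_csts_eq, halg, mul_comm, ← pp_inv, val_fnG_pp]
    refine congrArg (fun q => csts B.V q * _) ?_
    show pinv g (HopfAlgebra.antipodeAlgHom k A (M i j)) = g (M i j)
    show g (HopfAlgebra.antipodeAlgHom k A (HopfAlgebra.antipodeAlgHom k A (M i j))) = _
    rw [antipode_antipode e]
  have huniq : ∀ (p q : b → k), ∑ i, p i • F i = ∑ i, q i • F i → p = q := fun p q h =>
    funext fun i => by
      have := Fintype.linearIndependent_iff.1 hbli (fun i => p i - q i) (by
        simp only [sub_smul, Finset.sum_sub_distrib]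
        exact sub_eq_zero.2 h) i
      exact sub_eq_zero.1 this
  have hone : ∀ j, ∀ i, Bialgebra.counitAlgHom k A (M i j) = if i = j then 1 else 0 := fun j i => by
    have h := hτ ((Algebra.ofId k k).comp (Bialgebra.counitAlgHom k A)) j
    rw [pp_one, inv_one, tf_one] at h
    have h2 : F j = ∑ i, (if i = j then (1 : k) else 0) • F i := by simp
    exact congrFun (huniq _ _ (h.symm.trans h2)) i
  have hmul : ∀ (g h : A →ₐ[k] k) i j, pmul g h (M i j) = ∑ l, g (M i l) * h (M l j) := fun g h i j => by
    have e1 := hτ (pmul g h) j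
    rw [pp_mul, _root_.mul_inv_rev, ← tf_tf, hτ, map_sum] at e1
    have e2 : ∑ l, tf B (pp e g)⁻¹ (h (M l j) • F l) = ∑ i, (∑ l, g (M i l) * h (M l j)) • F i := by
      simp only [halg, map_mul, tf_csts, map_sum, Finset.sum_mul]
      simp only [← halg, hτ, Finset.smul_sum, smul_smul]
      rw [Finset.sum_comm]
      refine Finset.sum_congr rfl fun i _ => Finset.sum_congr rfl fun l _ => ?_
      rw [mul_comm]
      simp [Algebra.smul_def, RingHom.algebraMap_toAlgebra]
    exact congrFun (huniq _ _ (e1.symm.trans e2)) i
  refine ⟨{ J := b, N := N, F := F, hF := ?_, aff := ?_, M := M, corep := ⟨?_, ?_⟩, act_eq := hact }, rfl, ?_, ?_⟩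
  · intro i
    obtain ⟨⟨g, l⟩, hl⟩ := hbS i.2
    rw [show F i = tf B g (f l) from hl.symm]
    exact hasWeight_tf B g (hf l)
  · intro i
    obtain ⟨⟨g, l⟩, hl⟩ := hbS i.2
    obtain ⟨U, hU, hUa⟩ := haff l
    rw [show F i = tf B g (f l) from hl.symm]
    exact ⟨GITss.Xf B (hasWeight_tf B g (hf l)), rfl, isAffineOpen_tf B g hU hUa rfl⟩
  · haveI : IsReduced (A ⊗[k] A) := FinHopf.isReduced_tensor_of_perfect k A A
    haveI : Algebra.FiniteType k (A ⊗[k] A) := Algebra.FiniteType.trans (S := A) ‹_› inferInstance
    refine Matrix.ext fun i j => sub_eq_zero.1 (GLinFree.eq_zero_of_points (k := k) fun t => ?_)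
    let g := t.comp Algebra.TensorProduct.includeLeft
    let h := t.comp Algebra.TensorProduct.includeRight
    rw [map_sub, sub_eq_zero]
    simp only [Matrix.map_apply, Matrix.mul_apply, map_sum, map_mul]
    refine Eq.trans ?_ (hmul g h i j)
    rw [pmul, AlgHom.convMul_apply, Bialgebra.comulAlgHom_apply]
    generalize CoalgebraStruct.comul (R := k) (M i j) = z
    induction z using TensorProduct.induction_on with
    | zero => simp
    | tmul p q =>
      simp only [g, h, Algebra.TensorProduct.lift_tmul, AlgHom.comp_apply, ← map_mul,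
        Algebra.TensorProduct.includeLeft_apply, Algebra.TensorProduct.includeRight_apply,
        Algebra.TensorProduct.tmul_mul_tmul, _root_.one_mul, _root_.mul_one]
    | add p q hp hq => simp only [map_add, hp, hq]
  · refine Matrix.ext fun i j => ?_
    rw [Matrix.map_apply, hone, Matrix.one_apply]
  · intro l v hv
    have hl : f l ∈ Submodule.span k (Set.range F) := by
      rw [hspan]
      exact Submodule.subset_span ⟨(1, l), tf_one B (f l)⟩
    revert hl
    generalize f l = z
    intro hl
    induction hl using Submodule.span_induction with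
    | mem z hz =>
      obtain ⟨i, rfl⟩ := hz
      exact congrFun hv i
    | zero => exact map_zero (valHom v (U := ⊤) trivial)
    | add p q _ _ hp hq =>
      rw [← valHom_apply, map_add, valHom_apply, valHom_apply, hp, hq, add_zero]
    | smul q p _ hp => rw [halg, val_mul, hp, mul_zero]
  · rintro l _ ⟨w, hw, rfl⟩
    by_contra hno
    push Not at hno
    let φ : Γ(B.V.left, ⊤) →+* B.V.left.residueField w := (B.V.left.evaluation ⊤ w trivial).hom
    have hφ : ∀ s, φ s ≠ 0 ↔ w ∈ B.V.left.basicOpen s := fun s =>
      Scheme.evaluation_ne_zero_iff_mem_basicOpen (U := ⊤) _ w trivial s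
    have hl : f l ∈ Submodule.span k (Set.range F) := by
      rw [hspan]
      exact Submodule.subset_span ⟨(1, l), tf_one B (f l)⟩
    refine (hφ (f l)).2 hw ?_
    revert hl
    generalize f l = z
    intro hl
    induction hl using Submodule.span_induction with
    | mem z hz =>
      obtain ⟨i, rfl⟩ := hz
      by_contra hne
      exact hno i ⟨w, (hφ _).1 hne, rfl⟩
    | zero => exact map_zero φ
    | add p q _ _ hp hq => rw [map_add, hp, hq, add_zero]
    | smul q p _ hp => rw [halg, map_mul, hp, mul_zero]

end Groth.Agent.HMBr
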