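import Groth.Agent.HMu.Exists
import Groth.Agent.HMu.Parabolic
import Groth.Agent.HMCrit.Slice
import Groth.Agent.Chev.CommSubgroup
import Groth.Prelude.Def_CoactBr
import Groth.Agent.HopfCartier.Basic

/-!
# Rational points and one-parameter subgroups of the spectrum of a Hopf algebra
-/

set_option autoImplicit false
set_option backward.isDefEq.respectTransparency false
set_option linter.style.haveILetI false
set_option linter.unusedSectionVars false

universe u

open CategoryTheory CategoryTheory.Limits MonoidalCategory CartesianMonoidalCategory MonObj AlgebraicGeometry Opposite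
open Groth.Agent.HMu Groth.Agent.HMCrit
open scoped LaurentPolynomial

noncomputable section

namespace Groth.Agent.HMBr

variable {k : Type u} [Field k] {A : Type u} [CommRing A] [HopfAlgebra k A]
  {G : Over (Spec (CommRingCat.of k))} [GrpObj G]

/-- The identification of the point with the spectrum of the field. -/
def tu : 𝟙_ (Over (Spec (CommRingCat.of k))) ⟶ CoactBr.sp k k :=
  toSpec (A := k) (csts (𝟙_ _)) (RingHom.ext fun _ => rfl)

variable (e : CoactBr.sp k A ≅ G)

/-- The rational point of the group given by a point of the Hopf algebra. -/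
def pp (g : A →ₐ[k] k) : Pt G := tu ≫ CoactBr.pt g ≫ e.hom

/-- The function on the group given by an element of the Hopf algebra. -/
def fnG : A →+* Γ(G.left, ⊤) :=
  ((Scheme.ΓSpecIso (CommRingCat.of A)).inv ≫ e.inv.left.appTop).hom

theorem fnG_algebraMap (c : k) : fnG e (algebraMap k A c) = csts G c := by
  rw [← appTop_comp_csts e.inv]
  exact congrArg e.inv.left.appTop
    congr($(Scheme.ΓSpecIso_inv_naturality (CommRingCat.ofHom (algebraMap k A))) c)

theorem fnG_surjective : Function.Surjective (fnG e) := fun s => by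
  refine ⟨(Scheme.ΓSpecIso (CommRingCat.of A)).hom (e.hom.left.appTop s), ?_⟩
  show e.inv.left.appTop ((Scheme.ΓSpecIso (CommRingCat.of A)).inv
    ((Scheme.ΓSpecIso (CommRingCat.of A)).hom (e.hom.left.appTop s))) = s
  rw [Iso.hom_inv_id_apply, ← GmPts.appTop_comp_apply, ← Over.comp_left, Iso.inv_hom_id]
  rfl

theorem val_fnG_pp (g : A →ₐ[k] k) (a : A) : val (U := ⊤) (fnG e a) (pp e g) trivial = g a := by
  have h1 : (pp e g).left.appTop (fnG e a) = (toUnit _ ≫ 𝟙 (𝟙_ (Over (Spec (CommRingCat.of k))))).left.appTop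
      (csts (𝟙_ (Over (Spec (CommRingCat.of k)))) (g a)) := by
    show (pp e g).left.appTop (e.inv.left.appTop _) = _
    rw [← GmPts.appTop_comp_apply, ← Over.comp_left, pp, Category.assoc, Category.assoc, Iso.hom_inv_id,
      Category.comp_id, Category.comp_id, toUnit_unique (toUnit _) (𝟙 _), Over.comp_left,
      GmPts.appTop_comp_apply]
    have h := congr($(Scheme.ΓSpecIso_inv_naturality (CommRingCat.ofHom g.toRingHom)) a)
    refine (congrArg _ h.symm).trans ?_
    exact toSpec_appTop (A := k) (csts (𝟙_ _)) (RingHom.ext fun _ => rfl) (g a)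
  rw [val, appLE_top, h1]
  simp [csts]

/-- The point of the Hopf algebra at a rational point. -/
def ev (p : Pt G) : A →ₐ[k] k :=
  { (valHom p (U := ⊤) trivial).comp (fnG e) with
    commutes' := fun c => by
      show val (U := ⊤) (fnG e (algebraMap k A c)) p trivial = c
      rw [fnG_algebraMap, show csts G c = G.hom.appTop ((Scheme.ΓSpecIso (CommRingCat.of k)).inv c) from rfl,
        val, appLE_top, ← GmPts.appTop_comp_apply, Over.w p]
      simp }

theorem ev_pp (g : A →ₐ[k] k) : ev e (pp e g) = g := AlgHom.ext fun a => val_fnG_pp e g a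

include e in
theorem isAffine_left : IsAffine G.left :=
  haveI : IsIso e.inv.left := inferInstanceAs (IsIso ((Over.forget _).map e.inv))
  haveI : IsAffine (CoactBr.sp k A).left := inferInstanceAs (IsAffine (Spec (CommRingCat.of A)))
  IsAffine.of_isIso e.inv.left

include e in
theorem ptG_ext {p q : Pt G} (h : ∀ s : Γ(G.left, ⊤), val s p trivial = val s q trivial) : p = q := by
  haveI := isAffine_left e
  refine Over.OverMorphism.ext (ext_of_isAffine (CommRingCat.hom_ext (RingHom.ext fun s => ?_)))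
  have h1 := h s
  simp only [val, appLE_top] at h1
  exact (Scheme.ΓSpecIso (CommRingCat.of k)).commRingCatIsoToRingEquiv.injective h1

theorem pp_ev (p : Pt G) : pp e (ev e p) = p := ptG_ext e fun s => by
  obtain ⟨a, rfl⟩ := fnG_surjective e s
  exact val_fnG_pp e _ a

theorem pp_injective : Function.Injective (pp e) := fun g h hgh => by rw [← ev_pp e g, hgh, ev_pp]

variable [IsMonHom e.hom]

theorem pp_mul (g h : A →ₐ[k] k) : pp e (pmul g h) = pp e g * pp e h := by
  have h1 : pmul g h = (Algebra.TensorProduct.lift g h fun _ _ => Commute.all _ _).comp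
      (Bialgebra.comulAlgHom k A) := AlgHom.ext fun a => by
    rw [pmul, AlgHom.convMul_apply, AlgHom.comp_apply, Bialgebra.comulAlgHom_apply]
  rw [pp, pp, pp, ← MonObj.comp_mul, ← MonObj.mul_comp, CoactBr.pt_mul_pt, h1]

theorem pp_one : pp e ((Algebra.ofId k k).comp (Bialgebra.counitAlgHom k A)) = 1 := by
  rw [pp, ← CoactBr.one_eq_pt, MonObj.one_comp, MonObj.comp_one]

theorem pp_inv (g : A →ₐ[k] k) : pp e (pinv g) = (pp e g)⁻¹ := by
  rw [pp, pp, pinv, ← CoactBr.pt_inv, GrpObj.inv_comp, GrpObj.comp_inv]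

theorem ev_mul (p q : Pt G) : ev e (p * q) = pmul (ev e p) (ev e q) :=
  pp_injective e (by rw [pp_mul, pp_ev, pp_ev, pp_ev])

theorem ev_inv (p : Pt G) : ev e p⁻¹ = pinv (ev e p) := pp_injective e (by rw [pp_inv, pp_ev, pp_ev])

/-! ### One-parameter subgroups -/

variable (k) in
/-- Laurent polynomials as functions on the multiplicative group. -/
def lauFn : k[T;T⁻¹] →+* Γ((Gm' k).left, ⊤) :=
  AddMonoidAlgebra.liftNCRingHom (csts (Gm' k))
    { toFun := fun d => mon (M := ℤ) d.toAdd
      map_one' := mon_zero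
      map_mul' := fun d d' => mon_add d.toAdd d'.toAdd } fun _ _ => Commute.all _ _

theorem lauFn_single (d : ℤ) (c : k) :
    lauFn k (AddMonoidAlgebra.single d c) = csts (Gm' k) c * mon (M := ℤ) d :=
  AddMonoidAlgebra.liftNC_single _ _ _ _

theorem val_csts {Z : Over (Spec (CommRingCat.of k))} (c : k) (p : Pt Z) :
    val (U := ⊤) (csts Z c) p trivial = c := by
  rw [show csts Z c = Z.hom.appTop ((Scheme.ΓSpecIso (CommRingCat.of k)).inv c) from rfl,
    val, appLE_top, ← GmPts.appTop_comp_apply, Over.w p]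
  simp

theorem val_lauFn (x : k[T;T⁻¹]) (z : kˣ) : val (U := ⊤) (lauFn k x) (gp z) trivial = evalT z x := by
  induction x using AddMonoidAlgebra.induction_linear with
  | zero => rw [map_zero, map_zero]; exact map_zero (valHom (gp z) (U := ⊤) trivial)
  | add x y hx hy => rw [map_add, map_add, ← hx, ← hy]; exact map_add (valHom (gp z) (U := ⊤) trivial) _ _
  | single d c => rw [lauFn_single, val_mul, val_csts, evalT_single, val_mon_gp]

/-- The morphism given by a family of points with Laurent coordinates. -/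
def ops (φ : A →ₐ[k] k[T;T⁻¹]) : Gm' k ⟶ G :=
  toSpec ((lauFn k).comp φ.toRingHom) (RingHom.ext fun c => by
    show lauFn k (φ (algebraMap k A c)) = _
    rw [AlgHom.commutes, show algebraMap k k[T;T⁻¹] c = AddMonoidAlgebra.single 0 c from rfl, lauFn_single, mon_zero,
      _root_.mul_one]) ≫ e.hom

theorem gp_ops (φ : A →ₐ[k] k[T;T⁻¹]) (z : kˣ) : gp z ≫ ops e φ = pp e ((evalT z).comp φ) := by
  refine ptG_ext e fun s => ?_
  obtain ⟨a, rfl⟩ := fnG_surjective e s
  rw [val_fnG_pp, ← val_appTop (ops e φ)]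
  show val (U := ⊤) ((ops e φ).left.appTop (e.inv.left.appTop _)) _ _ = _
  rw [← GmPts.appTop_comp_apply, ← Over.comp_left, ops, Category.assoc, Iso.hom_inv_id, Category.comp_id,
    ]
  refine (congrArg (fun s => val (U := ⊤) s (gp z) trivial)
    (toSpec_appTop (A := A) ((lauFn k).comp φ.toRingHom) _ a)).trans ?_
  exact val_lauFn _ z

include e in
theorem hom_ext_gm₂ [IsAlgClosed k] [Algebra.FiniteType k A] {p q : Gm' k ⊗ Gm' k ⟶ G}
    (h : ∀ z w : kˣ, lift (gp z) (gp w) ≫ p = lift (gp z) (gp w) ≫ q) : p = q := by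
  haveI := isAffine_left e
  haveI : IsSeparated G.hom := inferInstance
  haveI : LocallyOfFiniteType G.hom := by
    haveI : IsIso e.inv.left := inferInstanceAs (IsIso ((Over.forget _).map e.inv))
    haveI : LocallyOfFiniteType (CoactBr.sp k A).hom :=
      (HasRingHomProperty.Spec_iff (P := @LocallyOfFiniteType)).2
        (RingHom.finiteType_algebraMap.2 ‹Algebra.FiniteType k A›)
    rw [← Over.w e.inv]; infer_instance
  haveI := epi_kap k Mu Mu
  rw [← cancel_epi (kap k Mu Mu)]
  haveI : IsDomain (MonoidAlgebra k (Mu × Mu)) := NoZeroDivisors.to_isDomain _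
  haveI : IsReduced (LineGrp.specA k (MonoidAlgebra k (Mu × Mu))).left :=
    inferInstanceAs (IsReduced (Spec (CommRingCat.of (MonoidAlgebra k (Mu × Mu)))))
  haveI : Algebra.FiniteType k (MonoidAlgebra k (Mu × Mu)) := inferInstance
  haveI : LocallyOfFiniteType (LineGrp.specA k (MonoidAlgebra k (Mu × Mu))).hom :=
    (HasRingHomProperty.Spec_iff (P := @LocallyOfFiniteType)).2
      (RingHom.finiteType_algebraMap.2 ‹Algebra.FiniteType k (MonoidAlgebra k (Mu × Mu))›)
  refine Chev.hom_ext_rat fun r => ?_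
  obtain ⟨z, hz⟩ := exists_gp (r ≫ kap k Mu Mu ≫ fst _ _)
  obtain ⟨w, hw⟩ := exists_gp (r ≫ kap k Mu Mu ≫ snd _ _)
  have hr : r ≫ kap k Mu Mu = lift (gp z) (gp w) := by
    apply CartesianMonoidalCategory.hom_ext
    · rw [Category.assoc, lift_fst]; exact hz.symm
    · rw [Category.assoc, lift_snd]; exact hw.symm
  rw [reassoc_of% hr, reassoc_of% hr]
  exact h z w

theorem isMonHom_ops [IsAlgClosed k] [Algebra.FiniteType k A] (φ : A →ₐ[k] k[T;T⁻¹])
    (hφ : ∀ z w : kˣ, (evalT (z * w)).comp φ = pmul ((evalT z).comp φ) ((evalT w).comp φ)) :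
    IsMonHom (ops e φ) where
  one_hom := by
    have h1 : gp (1 : kˣ) ≫ ops e φ = 1 := by
      have h := hφ 1 1
      rw [_root_.mul_one] at h
      have h2 := congrArg (pp e) h
      rw [pp_mul, ← gp_ops] at h2
      exact left_eq_mul.1 h2
    rw [gp_one, Hom.one_def, Hom.one_def, Category.assoc] at h1
    rw [toUnit_unique (toUnit _) (𝟙 (𝟙_ (Over (Spec (CommRingCat.of k))))), Category.id_comp,
      Category.id_comp] at h1
    exact h1
  mul_hom := by
    refine hom_ext_gm₂ e fun z w => ?_
    rw [← Category.assoc, ← Hom.mul_def, ← gp_mul, gp_ops, hφ, pp_mul, ← gp_ops, ← gp_ops, lift_map_assoc,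
      ← Hom.mul_def]

/-- The inverse of the one-parameter subgroup given by a map of bialgebras. -/
def opsInv (lam : A →ₐc[k] k[T;T⁻¹]) : Gm' k ⟶ G :=
  ops e ((lam : A →ₐ[k] k[T;T⁻¹]).comp (HopfAlgebra.antipodeAlgHom k A))

theorem gp_opsInv (lam : A →ₐc[k] k[T;T⁻¹]) (z : kˣ) :
    gp z ≫ opsInv e lam = (pp e ((evalT z).comp (lam : A →ₐ[k] k[T;T⁻¹])))⁻¹ := by
  rw [opsInv, gp_ops, ← pp_inv]
  rfl

theorem evalT_mul (z w : kˣ) :
    evalT (z * w) = pmul (evalT z) (evalT w) := by
  refine AlgHom.ext fun x => ?_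
  induction x using AddMonoidAlgebra.induction_linear with
  | zero => simp
  | add x y hx hy => rw [map_add, map_add, hx, hy]
  | single d c => ?_
  rw [show (AddMonoidAlgebra.single d c : k[T;T⁻¹]) = c • AddMonoidAlgebra.single d (1 : k) by
    rw [AddMonoidAlgebra.smul_single', _root_.mul_one], map_smul, map_smul]
  congr 1
  rw [pmul, AlgHom.convMul_apply, show (AddMonoidAlgebra.single d (1 : k) : k[T;T⁻¹]) = LaurentPolynomial.T d from rfl,
    LaurentPolynomial.comul_T]
  show _ = evalT z (LaurentPolynomial.T d) * evalT w (LaurentPolynomial.T d)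
  rw [LaurentPolynomial.T, evalT_single, evalT_single, evalT_single, Units.val_mul, mul_zpow]
  ring

theorem evalT_comp_mul (lam : A →ₐc[k] k[T;T⁻¹]) (z w : kˣ) :
    (evalT (z * w)).comp (lam : A →ₐ[k] k[T;T⁻¹]) =
      pmul ((evalT z).comp (lam : A →ₐ[k] k[T;T⁻¹])) ((evalT w).comp (lam : A →ₐ[k] k[T;T⁻¹])) := by
  rw [evalT_mul]
  exact AlgHom.ext fun a =>
    DFunLike.congr_fun (AlgHom.convMul_comp_bialgHom_distrib (WithConv.toConv (evalT z)) (WithConv.toConv (evalT w)) lam) a

theorem isMonHom_opsInv [IsAlgClosed k] [Algebra.FiniteType k A] (lam : A →ₐc[k] k[T;T⁻¹]) :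
    IsMonHom (opsInv e lam) := by
  refine isMonHom_ops e _ fun z w => pp_injective e ?_
  have h : ∀ y : kˣ, pp e ((evalT y).comp ((lam : A →ₐ[k] k[T;T⁻¹]).comp (HopfAlgebra.antipodeAlgHom k A))) =
      (pp e ((evalT y).comp (lam : A →ₐ[k] k[T;T⁻¹])))⁻¹ := fun y => by
    rw [← pp_inv]
    rfl
  rw [pp_mul, h, h, h, mul_comm z w, evalT_comp_mul, pp_mul, _root_.mul_inv_rev]

theorem opsInv_ne_one [IsAlgClosed k] (lam : A →ₐc[k] k[T;T⁻¹]) (h : ¬ SGA3t2b.IsTrivialBialgHom lam) :
    opsInv e lam ≠ 1 := by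
  intro hone
  refine h fun a => ?_
  refine sub_eq_zero.1 (eq_zero_of_forall_evalT fun z => ?_)
  have h1 := gp_opsInv e lam z
  rw [hone, MonObj.comp_one, eq_comm, inv_eq_one, ← pp_one e] at h1
  rw [map_sub, AlgHom.commutes, sub_eq_zero]
  exact DFunLike.congr_fun (pp_injective e h1) a

end Groth.Agent.HMBr
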