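import Groth.Agent.HMBr.Lin
import Groth.Agent.PsRefl.LinAction
import Groth.Agent.GITss.Ratio
import Groth.Agent.S19603

/-!
# Invariant polynomials give invariant sections
-/

set_option autoImplicit false
set_option backward.isDefEq.respectTransparency false
set_option linter.style.haveILetI false
set_option linter.unusedSectionVars false

universe u

open CategoryTheory CategoryTheory.Limits MonoidalCategory CartesianMonoidalCategory MonObj AlgebraicGeometry Opposite
open TopologicalSpace Groth.Agent.HMu Groth.Agent.HMCrit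
open scoped TensorProduct

noncomputable section

namespace Groth.Agent.HMBr

variable {k : Type u} [Field k]

/-- The value of a polynomial in functions. -/
def peval {J : Type*} (Z : Over (Spec (CommRingCat.of k))) (F : J → Γ(Z.left, ⊤)) :
    MvPolynomial J k →+* Γ(Z.left, ⊤) :=
  MvPolynomial.eval₂Hom (csts Z) F

theorem peval_X {J : Type*} {Z : Over (Spec (CommRingCat.of k))} (F : J → Γ(Z.left, ⊤)) (j : J) :
    peval Z F (MvPolynomial.X j) = F j := MvPolynomial.eval₂Hom_X' _ _ _

theorem peval_monomial {J : Type*} {Z : Over (Spec (CommRingCat.of k))} (F : J → Γ(Z.left, ⊤)) (d : J →₀ ℕ) (c : k) :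
    peval Z F (MvPolynomial.monomial d c) = csts Z c * d.prod fun j n => F j ^ n :=
  MvPolynomial.eval₂Hom_monomial _ _ _ _

variable {G X : Over (Spec (CommRingCat.of k))} [GrpObj G] {a : AlgGrp.Action G X} {B : GLinSh.LinBun G a}
variable {A : Type u} [CommRing A] [HopfAlgebra k A] {e : CoactBr.sp k A ≅ G}

theorem hasWeight_one : GLinSh.HasWeight B.atlas.chart 0 (1 : Γ(B.V.left, ⊤)) := fun U y _ =>
  ⟨1, by simp [GLinSh.resTop]⟩

theorem hasWeight_sum {J : Type*} (s : Finset J) {n : ℕ} (f : J → Γ(B.V.left, ⊤))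
    (hf : ∀ j ∈ s, GLinSh.HasWeight B.atlas.chart n (f j)) : GLinSh.HasWeight B.atlas.chart n (∑ j ∈ s, f j) :=
  Finset.sum_induction f (fun t => GLinSh.HasWeight B.atlas.chart n t) (fun _ _ h h' => GITss.hasWeight_add h h')
    (fun U y _ => ⟨0, by simp [GLinSh.resTop]⟩) hf

namespace LinData

variable (L : LinData B e)

theorem vec_def (v : Pt B.V) (i : L.J) : L.vec v i = val (U := ⊤) (L.F i) v trivial := rfl

theorem val_peval (P : MvPolynomial L.J k) (v : Pt B.V) :
    val (U := ⊤) (peval B.V L.F P) v trivial = MvPolynomial.eval (L.vec v) P := by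
  rw [← valHom_apply]
  induction P using MvPolynomial.induction_on with
  | C c => rw [peval, MvPolynomial.eval₂Hom_C, MvPolynomial.eval_C, valHom_apply]; exact val_csts c v
  | add p q hp hq => rw [map_add, map_add, map_add, hp, hq]
  | mul_X p j hp => rw [map_mul, map_mul, map_mul, hp, peval_X, valHom_apply, MvPolynomial.eval_X]; rfl

theorem hasWeight_prod (d : L.J →₀ ℕ) :
    GLinSh.HasWeight B.atlas.chart (L.N * d.degree) (d.prod fun j n => L.F j ^ n) := by
  induction d using Finsupp.induction with
  | zero => simpa using hasWeight_one (B := B)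
  | single_add j n d hj hn ih =>
    rw [Finsupp.prod_add_index' (fun _ => pow_zero _) (fun _ _ _ => pow_add _ _ _),
      Finsupp.prod_single_index (h := fun j n => L.F j ^ n) (pow_zero _), map_add, Finsupp.degree_single, Nat.mul_add]
    exact GITss.hasWeight_mul (GITss.hasWeight_pow (L.hF j) n) ih

theorem hasWeight_monomial {P : MvPolynomial L.J k} {n : ℕ} (hP : P.IsHomogeneous n) {d : L.J →₀ ℕ}
    (hd : d ∈ P.support) :
    GLinSh.HasWeight B.atlas.chart (L.N * n) (peval B.V L.F (MvPolynomial.monomial d (P.coeff d))) := by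
  have h : d.degree = n := by
    rw [← hP (MvPolynomial.mem_support_iff.1 hd), Finsupp.degree_eq_weight_one]
    rfl
  rw [peval_monomial, ← h]
  exact GITss.hasWeight_scal_mul (L.hasWeight_prod d) _

theorem hasWeight_peval {P : MvPolynomial L.J k} {n : ℕ} (hP : P.IsHomogeneous n) :
    GLinSh.HasWeight B.atlas.chart (L.N * n) (peval B.V L.F P) := by
  conv => arg 3; rw [MvPolynomial.as_sum P, map_sum]
  exact hasWeight_sum _ _ fun d hd => L.hasWeight_monomial hP hd

theorem isInvFn_peval {P : MvPolynomial L.J k}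
    (hP : PsRefl.linHom k L.M P = P ⊗ₜ[k] (1 : A)) : GLinSh.IsInvFn B.lift (peval B.V L.F P) := by
  letI := galg (k := k) (G ⊗ B.V)
  let sndF : MvPolynomial L.J k →ₐ[k] Γ((G ⊗ B.V).left, ⊤) :=
    { (snd G B.V).left.appTop.hom.comp (peval B.V L.F) with
      commutes' := fun c => by
        show (snd G B.V).left.appTop (peval B.V L.F (MvPolynomial.C c)) = csts (G ⊗ B.V) c
        rw [peval, MvPolynomial.eval₂Hom_C]
        exact RingHom.congr_fun (appTop_comp_csts (snd G B.V)) c }
  let fstA : A →ₐ[k] Γ((G ⊗ B.V).left, ⊤) :=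
    { ((fst G B.V).left.appTop.hom.comp (fnG e)).comp (HopfAlgebra.antipodeAlgHom k A).toRingHom with
      commutes' := fun c => by
        show (fst G B.V).left.appTop (fnG e (HopfAlgebra.antipodeAlgHom k A (algebraMap k A c))) = csts (G ⊗ B.V) c
        rw [AlgHom.commutes, fnG_algebraMap]
        exact RingHom.congr_fun (appTop_comp_csts (fst G B.V)) c }
  let actF : MvPolynomial L.J k →ₐ[k] Γ((G ⊗ B.V).left, ⊤) :=
    { B.lift.act.left.appTop.hom.comp (peval B.V L.F) with
      commutes' := fun c => by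
        show B.lift.act.left.appTop (peval B.V L.F (MvPolynomial.C c)) = csts (G ⊗ B.V) c
        rw [peval, MvPolynomial.eval₂Hom_C]
        exact RingHom.congr_fun (appTop_comp_csts B.lift.act) c }
  have key : actF = (Algebra.TensorProduct.lift sndF fstA fun _ _ => Commute.all _ _).comp (PsRefl.linHom k L.M) := by
    refine MvPolynomial.algHom_ext fun j => ?_
    rw [AlgHom.comp_apply, PsRefl.linHom_X, map_sum]
    show B.lift.act.left.appTop (peval B.V L.F (MvPolynomial.X j)) = _
    rw [peval_X, L.act_eq j]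
    refine Finset.sum_congr rfl fun i _ => ?_
    rw [Algebra.TensorProduct.lift_tmul]
    show _ = (snd G B.V).left.appTop (peval B.V L.F (MvPolynomial.X i)) * _
    rw [peval_X]
    rfl
  have h1 := DFunLike.congr_fun key P
  rw [AlgHom.comp_apply, hP, Algebra.TensorProduct.lift_tmul, map_one, _root_.mul_one] at h1
  exact h1

theorem isInvSection_peval {P : MvPolynomial L.J k} {n : ℕ} (hP : P.IsHomogeneous n)
    (hinv : PsRefl.linHom k L.M P = P ⊗ₜ[k] (1 : A)) : B.IsInvSection (L.N * n) (peval B.V L.F P) :=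
  ⟨L.hasWeight_peval hP, L.isInvFn_peval hinv⟩

variable [IsProper X.hom]

omit [GrpObj G] in
theorem isSeparated_left (X : Over (Spec (CommRingCat.of k))) [IsProper X.hom] : X.left.IsSeparated :=
  (Scheme.isSeparated_iff _).2 (by rw [← terminal.comp_from X.hom]; infer_instance)

theorem isAffineOpen_prod {d : L.J →₀ ℕ} (hd : d ≠ 0) :
    IsAffineOpen (GITss.Xf B (L.hasWeight_prod d)) := by
  haveI := isSeparated_left X
  suffices H : ∀ s : Finset L.J, s.Nonempty → (∀ j ∈ s, 1 ≤ d j) →
      ∃ (m : ℕ) (hm : GLinSh.HasWeight B.atlas.chart m (∏ j ∈ s, L.F j ^ d j)), IsAffineOpen (GITss.Xf B hm) by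
    obtain ⟨m, hm, h⟩ := H d.support (Finsupp.support_nonempty_iff.2 hd)
      (fun j hj => Nat.one_le_iff_ne_zero.2 (Finsupp.mem_support_iff.1 hj))
    exact h
  intro s hs hd'
  induction hs using Finset.Nonempty.cons_induction with
  | singleton j =>
    refine ⟨L.N * d j, by rw [Finset.prod_singleton]; exact GITss.hasWeight_pow (L.hF j) _, ?_⟩
    obtain ⟨U, hU, hUa⟩ := L.aff j
    convert hUa using 1
    refine Opens.ext ?_
    show GLinSh.nonvanishing B.π _ = _
    rw [Finset.prod_singleton, GITss.nonvanishing_pow (L.hF j) (hd' j (Finset.mem_singleton_self j)), hU]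
  | cons j s hjs hs ih =>
    obtain ⟨m, hm, h⟩ := ih fun i hi => hd' i (Finset.mem_cons_of_mem hi)
    refine ⟨L.N * d j + m, by rw [Finset.prod_cons]; exact GITss.hasWeight_mul (GITss.hasWeight_pow (L.hF j) _) hm, ?_⟩
    obtain ⟨U, hU, hUa⟩ := L.aff j
    convert hUa.inf h using 1
    refine Opens.ext ?_
    show GLinSh.nonvanishing B.π _ = (U : Set X.left) ∩ GLinSh.nonvanishing B.π _
    rw [Finset.prod_cons, GITss.nonvanishing_mul (GITss.hasWeight_pow (L.hF j) _) hm,
      GITss.nonvanishing_pow (L.hF j) (hd' j (Finset.mem_cons_self j s)), hU]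

/-- The non-vanishing open of a polynomial in the functions is affine. -/
theorem isAffineOpen_peval {P : MvPolynomial L.J k} {n : ℕ} (hn : 0 < n) (hP : P.IsHomogeneous n) :
    IsAffineOpen (GITss.Xf B (L.hasWeight_peval hP)) := by
  classical
  set f := peval B.V L.F P
  set hf := L.hasWeight_peval hP
  let mo : (L.J →₀ ℕ) → Γ(B.V.left, ⊤) := fun d => peval B.V L.F (MvPolynomial.monomial d (P.coeff d))
  choose r hr using fun d : P.support => GITss.exists_ratio (h := mo d.1) hf (L.hasWeight_monomial hP d.2)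
  refine isAffineOpen_of_isAffineOpen_basicOpen _ (Set.range r) ?_ ?_
  · refine (Ideal.eq_top_iff_one _).2 ?_
    have h1 : GITss.IsRatio B f f (GITss.Xf B hf) (∑ d, r d) := by
      show B.π.left.app _ _ * _ = _
      rw [map_sum, Finset.sum_mul, Finset.sum_congr rfl fun d _ => hr d, ← map_sum]
      congr 1
      show ∑ d : P.support, mo d.1 = f
      rw [Finset.sum_coe_sort P.support mo, ← map_sum, ← MvPolynomial.as_sum]
    have h2 : GITss.IsRatio B f f (GITss.Xf B hf) 1 := by
      show B.π.left.app _ _ * _ = _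
      rw [map_one, _root_.one_mul]
    rw [show (1 : Γ(X.left, GITss.Xf B hf)) = ∑ d, r d from h2.ext hf le_rfl h1]
    exact Ideal.sum_mem _ fun d _ => Ideal.subset_span ⟨d, rfl⟩
  · rintro _ ⟨d, rfl⟩
    have hmo : GLinSh.HasWeight B.atlas.chart (L.N * n) (mo d.1) := L.hasWeight_monomial hP d.2
    rw [(hr d).basicOpen_eq hf hmo, inf_comm]
    obtain ⟨r', hr'⟩ := GITss.exists_ratio (h := f) hmo hf
    rw [← hr'.basicOpen_eq hmo hf]
    have hc : P.coeff d.1 ≠ 0 := MvPolynomial.mem_support_iff.1 d.2
    have haff : IsAffineOpen (GITss.Xf B hmo) := by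
      have hd0 : (d.1 : L.J →₀ ℕ) ≠ 0 := by
        intro h0
        have := hP hc
        rw [h0, map_zero] at this
        omega
      have e : GITss.Xf B hmo = GITss.Xf B (L.hasWeight_prod d.1) := by
        refine Opens.ext ?_
        show GLinSh.nonvanishing B.π _ = GLinSh.nonvanishing B.π _
        simp only [mo, peval_monomial]
        show _ '' _ = _ '' _
        rw [Scheme.basicOpen_mul, B.V.left.basicOpen_of_isUnit ((Ne.isUnit hc).map (csts B.V)), top_inf_eq]
      rw [e]
      exact L.isAffineOpen_prod hd0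
    exact haff.basicOpen r'

end LinData

end Groth.Agent.HMBr
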