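import Groth.Agent.HMBr.Criterion
import Groth.Agent.GITss.StabConj
import Groth.Agent.HMu.Weights

/-!
# A properly stable point has positive numerical function
-/

set_option autoImplicit false
set_option backward.isDefEq.respectTransparency false
set_option linter.style.haveILetI false
set_option linter.unusedSectionVars false

universe u

open CategoryTheory CategoryTheory.Limits MonoidalCategory CartesianMonoidalCategory MonObj AlgebraicGeometry Opposite
open TopologicalSpace Groth.Agent.HMu Groth.Agent.HMCrit Filter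
open scoped LaurentPolynomial

noncomputable section

namespace Groth.Agent.HMBr

variable {k : Type u} [Field k]

/-- Rational points of an affine scheme with the same image are equal. -/
theorem pt_eq_of_base_eq {Z : Over (Spec (CommRingCat.of k))} [IsAffine Z.left] {p q : Pt Z}
    (h : base p = base q) : p = q := by
  refine Over.OverMorphism.ext (ext_of_isAffine (CommRingCat.hom_ext (RingHom.ext fun s => ?_)))
  refine (Scheme.ΓSpecIso (CommRingCat.of k)).commRingCatIsoToRingEquiv.injective ?_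
  show (Scheme.ΓSpecIso (CommRingCat.of k)).hom (p.left.appTop s) = (Scheme.ΓSpecIso (CommRingCat.of k)).hom (q.left.appTop s)
  have hv : ∀ r : Pt Z, val (U := ⊤) s r trivial = (Scheme.ΓSpecIso (CommRingCat.of k)).hom (r.left.appTop s) :=
    fun r => by rw [val, appLE_top]
  rw [← hv, ← hv]
  by_contra hne
  have h1 : val (U := ⊤) (s - csts Z (val (U := ⊤) s p trivial)) q trivial ≠ 0 := by
    rw [← valHom_apply, map_sub, valHom_apply, valHom_apply, val_csts, sub_ne_zero]
    exact Ne.symm hne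
  rw [val_ne_zero_iff, ← h, ← val_ne_zero_iff (U := ⊤) _ p trivial, ← valHom_apply, map_sub, valHom_apply, valHom_apply,
    val_csts, sub_self] at h1
  exact h1 rfl

variable {G X : Over (Spec (CommRingCat.of k))} [GrpObj G] {a : AlgGrp.Action G X}

/-- A homomorphism from the multiplicative group with finitely many values is trivial. -/
theorem eq_one_of_finite [Infinite k] [IsAffine G.left] {l : Red.Gm (Spec (CommRingCat.of k)) ⟶ G} [IsMonHom l]
    (h : (Set.range fun z : kˣ => base (gp z ≫ l)).Finite) : l = 1 := by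
  classical
  have hfin : (Set.range fun z : kˣ => gp z ≫ l).Finite :=
    Set.Finite.of_finite_image (f := base) (h.subset (by rintro _ ⟨_, ⟨z, rfl⟩, rfl⟩; exact ⟨z, rfl⟩))
      fun p _ q _ e => pt_eq_of_base_eq e
  refine Over.OverMorphism.ext (ext_of_isAffine (CommRingCat.hom_ext (RingHom.ext fun s => gm_fn_ext fun z => ?_)))
  rw [val_appTop l s (gp z), val_appTop (1 : Red.Gm (Spec (CommRingCat.of k)) ⟶ G) s (gp z)]
  obtain ⟨as, has⟩ := exists_laurent (k := k) (l.left.appTop s)
  let x : k[T;T⁻¹] := ∑ d ∈ as.support, AddMonoidAlgebra.single d (as d)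
  have hx : ∀ w : kˣ, evalT w x = val (U := ⊤) s (gp w ≫ l) trivial := fun w => by
    rw [← val_appTop l s (gp w), has, map_sum]
    exact Finset.sum_congr rfl fun d _ => evalT_single w d (as d)
  have hS : (Set.range fun w : kˣ => evalT w x).Finite := by
    refine (hfin.image fun q : Pt G => val (U := ⊤) s q trivial).subset ?_
    rintro _ ⟨w, rfl⟩
    exact ⟨_, ⟨w, rfl⟩, (hx w).symm⟩
  have h0 : ∏ c ∈ hS.toFinset, (x - algebraMap k k[T;T⁻¹] c) = 0 := by
    refine eq_zero_of_forall_evalT fun w => ?_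
    rw [map_prod]
    refine Finset.prod_eq_zero (i := evalT w x) (hS.mem_toFinset.2 ⟨w, rfl⟩) ?_
    rw [map_sub, AlgHom.commutes]
    exact sub_self _
  obtain ⟨c, -, hc⟩ := Finset.prod_eq_zero_iff.1 h0
  have e1 : gp (1 : kˣ) ≫ l = 1 := gp_one_comp
  have e2 : gp z ≫ (1 : Red.Gm (Spec (CommRingCat.of k)) ⟶ G) = gp (1 : kˣ) ≫ l := by rw [MonObj.comp_one, e1]
  rw [val_congr' (U := ⊤) s e2 trivial trivial, ← hx, ← hx, sub_eq_zero.1 hc, AlgHom.commutes, AlgHom.commutes]

variable [IsProper X.hom] [LocallyOfFiniteType G.hom] [QuasiCompact G.hom] [IsAffine G.left]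
  {B : GLinSh.LinBun G a}

set_option maxHeartbeats 400000 in
/-- The numerical function of a properly stable point along a non-trivial subgroup is positive. -/
theorem pos_of_isProperlyStable [IsAlgClosed k] {x : Pt X} (hx : B.IsProperlyStablePt (base x))
    (l : Red.Gm (Spec (CommRingCat.of k)) ⟶ G) [IsMonHom l] (hl : l ≠ 1) {m : ℤ} (hm : HMNum.IsMu B l x m) :
    0 < m := by
  classical
  haveI : Infinite k := IsAlgClosed.instInfinite
  obtain ⟨⟨n, f, hn, hf, hxf, U, hU, -, hcl⟩, hfin⟩ := hx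
  rcases lt_or_eq_of_le (forall_exists_invSection_nonneg hn hf hxf hm) with h | h
  · exact h
  exfalso
  subst h
  obtain ⟨y, hlim, hfix, hy⟩ := core_iff hm
  obtain ⟨v, hv, hnz⟩ := exists_nz (B := B) x
  have hne : val (U := ⊤) f v trivial ≠ 0 := (val_ne_zero_iff_mem hf.1 hnz).2 (hv.symm ▸ hxf)
  have hyU : base y ∈ U := by
    rw [← SetLike.mem_coe, hU]
    refine (hy n f hf.1 v hv hnz (Finsupp.single 0 (val (U := ⊤) f v trivial)) fun z => by
      rw [val_inv hf.2, Finsupp.sum_single_index (zero_mul _), zpow_zero, _root_.mul_one]).2.2 ?_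
    rw [mul_zero, neg_zero, Finsupp.single_eq_same]
    exact hne
  have hxU : base x ∈ U := by rw [← SetLike.mem_coe, hU]; exact hxf
  haveI := subsingleton_one (k := k)
  have hrange : Set.range x.left.base = {base x} := by
    refine Set.Subset.antisymm ?_ (Set.singleton_subset_iff.2 ⟨_, rfl⟩)
    rintro _ ⟨t, rfl⟩
    rw [Set.mem_singleton_iff, Subsingleton.elim t (IsLocalRing.closedPoint k)]
    rfl
  obtain ⟨φ', horb, h0⟩ := exists_orbit hlim
  -- the limit point lies on the orbit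
  obtain ⟨C, hC, hCR⟩ := isClosed_induced_iff.1 (hcl k (𝟙_ _) (Iso.refl _) x
    (hrange ▸ Set.singleton_subset_iff.2 hxU))
  let Φ : A1' k ⟶ X ⊗ 𝟙_ (Over (Spec (CommRingCat.of k))) := lift φ' (toUnit _)
  have hΦ : ∀ t : Pt (A1' k), t ≫ Φ = lift (t ≫ φ') (𝟙 _) := fun t => by
    rw [comp_lift, toUnit_unique (t ≫ toUnit _) (𝟙 _)]
  have hΦU : ∀ t : Pt (A1' k), base (t ≫ φ') ∈ U → base (t ≫ Φ) ∈ (fst X (𝟙_ _)).left ⁻¹ᵁ U := fun t ht => by
    show (fst X (𝟙_ _)).left (base (t ≫ Φ)) ∈ U
    rw [← base_comp, hΦ, lift_fst]; exact ht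
  have hy0 : base (ap (0 : k) ≫ Φ) ∈ Set.range (GIT.psi a x).left.base := by
    by_contra hnot
    have hmem : base (ap (0 : k) ≫ Φ) ∈ (fst X (𝟙_ _)).left ⁻¹ᵁ U := hΦU _ (by rw [h0]; exact hyU)
    have hnC : base (ap (0 : k) ≫ Φ) ∉ C := fun h => hnot ((Set.ext_iff.1 hCR ⟨_, hmem⟩).1 h)
    let O : (A1' k).left.Opens := φ'.left ⁻¹ᵁ U ⊓ ⟨Φ.left ⁻¹' Cᶜ, hC.isOpen_compl.preimage Φ.left.continuous⟩
    have h0O : base (ap (0 : k)) ∈ O := by
      refine ⟨?_, ?_⟩
      · show φ'.left (base (ap 0)) ∈ U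
        rw [← base_comp, h0]; exact hyU
      · exact hnC
    obtain ⟨z, hzO, hz0⟩ := ((exists_reg0 h0O 0).1.and eventually_ne_zero).exists
    refine hzO.2 ((Set.ext_iff.1 hCR ⟨base (ap z ≫ Φ), hΦU _ (by rw [base_comp]; exact hzO.1)⟩).2 ?_)
    refine ⟨base (lift (gp (Units.mk0 z hz0) ≫ l) (𝟙 _)), ?_⟩
    show (GIT.psi a x).left _ = base (ap z ≫ Φ)
    rw [← base_comp]
    congr 1
    rw [hΦ, show ap z ≫ φ' = lift (gp (Units.mk0 z hz0) ≫ l) x ≫ a.act by rw [← horb, Units.val_mk0], GIT.psi,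
      comp_lift, lift_snd, lift_whiskerLeft_assoc, Category.id_comp]
  -- hence has finite stabiliser
  have hxfin : base x ∈ GITss.finOpen a := (GITss.mem_finOpen_iff a _).2 hfin
  have hyfin : base y ∈ GITss.finOpen a := by
    obtain ⟨u, hu⟩ := hy0
    have h1 := congrArg (fst X (𝟙_ _)).left hu
    rw [← base_comp, hΦ, lift_fst, h0, ← Scheme.Hom.comp_apply, ← Over.comp_left, GIT.psi, lift_fst,
      Over.comp_left, Scheme.Hom.comp_apply] at h1
    rw [← h1]
    refine GITss.stable_finOpen a ?_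
    show (snd G X).left ((G ◁ x).left u) ∈ GITss.finOpen a
    rw [← Scheme.Hom.comp_apply, ← Over.comp_left, whiskerLeft_snd, Over.comp_left, Scheme.Hom.comp_apply,
      Set.mem_singleton_iff.1 (hrange.subset ⟨_, rfl⟩)]
    exact hxfin
  refine hl (eq_one_of_finite ?_)
  let st := GLinSh.stabTo a (𝟙 X)
  refine ((Set.Finite.image (fun w => (fst G X).left (pullback.fst (GIT.psi a (𝟙 X)).left (lift (𝟙 X) (𝟙 X)).left w))
    (show (st ⁻¹' {base y}).Finite from hyfin)).subset ?_)
  rintro _ ⟨z, rfl⟩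
  have hgy : lift (gp z ≫ l) y ≫ a.act = y := by simpa only [Category.id_comp] using hfix _ (𝟙 _) (gp z)
  have e : (lift (gp z ≫ l) y ≫ GIT.psi a (𝟙 X)).left = (y ≫ lift (𝟙 X) (𝟙 X)).left := by
    congr 1
    simp only [GIT.psi, comp_lift, lift_snd, MonoidalCategory.whiskerLeft_id, Category.id_comp, Category.comp_id, hgy]
  let s : (𝟙_ (Over (Spec (CommRingCat.of k)))).left ⟶ GLinSh.stab a (𝟙 X) :=
    pullback.lift (lift (gp z ≫ l) y).left y.left e
  refine ⟨s (IsLocalRing.closedPoint k), ?_, ?_⟩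
  · show (s ≫ st) (IsLocalRing.closedPoint k) ∈ ({base y} : Set X.left)
    rw [show s ≫ st = y.left from pullback.lift_snd _ _ _]
    rfl
  · show (fst G X).left ((s ≫ pullback.fst _ _) (IsLocalRing.closedPoint k)) = _
    rw [show s ≫ pullback.fst _ _ = (lift (gp z ≫ l) y).left from pullback.lift_fst _ _ _]
    show (fst G X).left (base (lift (gp z ≫ l) y)) = _
    rw [← base_comp, lift_fst]

end Groth.Agent.HMBr
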