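import Groth.Agent.HMBr.Integral
import Groth.Agent.HMBr.Criterion
import Groth.Agent.GITss.StabConj
import Groth.Agent.GITss.StableReg

/-!
# A point with positive numerical function is properly stable
-/

set_option autoImplicit false
set_option backward.isDefEq.respectTransparency false
set_option linter.style.haveILetI false
set_option linter.unusedSectionVars false

universe u

open CategoryTheory CategoryTheory.Limits MonoidalCategory CartesianMonoidalCategory MonObj AlgebraicGeometry Opposite
open TopologicalSpace Groth.Agent.HMu Groth.Agent.HMCrit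
open scoped LaurentPolynomial

noncomputable section

namespace Groth.Agent.HMBr

variable {k : Type u} [Field k] {G X : Over (Spec (CommRingCat.of k))} [GrpObj G] {a : AlgGrp.Action G X}
  {B : GLinSh.LinBun G a}

/-- The numerical function along the trivial subgroup vanishes. -/
theorem mu_one_eq_zero [Infinite k] (hB : HMNum.AmpleCover B) {l : Red.Gm (Spec (CommRingCat.of k)) ⟶ G}
    [IsMonHom l] (hl : l = 1) {x : Pt X} {m : ℤ} (hm : HMNum.IsMu B l x m) : m = 0 := by
  obtain ⟨y, -, hy⟩ := core hm
  obtain ⟨n, f, hn, hf, hyf, -⟩ := hB.2 (base y)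
  obtain ⟨v, hv, hnz⟩ := exists_nz (B := B) x
  obtain ⟨hlow, htop⟩ := hy n f hf v hv hnz (Finsupp.single 0 (val (U := ⊤) f v trivial)) fun z => by
    rw [Finsupp.sum_single_index (zero_mul _), zpow_zero, _root_.mul_one]
    refine val_congr' (U := ⊤) f ?_ trivial trivial
    rw [hl, MonObj.comp_one]
    exact one_act _ _
  have h := htop hyf
  by_contra hm0
  refine h (Finsupp.single_eq_of_ne ?_)
  simp only [ne_eq, neg_eq_zero, mul_eq_zero, not_or]
  exact ⟨by omega, hm0⟩

/-- A morphism from a field-valued object landing on a rational point is constant. -/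
theorem eq_toUnit_comp {T : Over (Spec (CommRingCat.of k))} {Ω : Type u} [Field Ω]
    (eT : T.left ≅ Spec (CommRingCat.of Ω)) {U : X.left.Opens} (hU : IsAffineOpen U) (x : Pt (GITss.opn U))
    (g : T ⟶ GITss.opn U) (hg : ∀ t, g.left t = base x) : g = toUnit T ≫ x := by
  haveI : IsAffine (GITss.opn U).left := hU
  haveI : IsReduced T.left := isReduced_of_isOpenImmersion eT.hom
  refine Over.OverMorphism.ext (ext_of_isAffine (CommRingCat.hom_ext (RingHom.ext fun s => ?_)))
  show g.left.appTop s = (toUnit T ≫ x).left.appTop s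
  let c := val (U := ⊤) s x trivial
  have h0 : g.left.appTop (s - csts (GITss.opn U) c) = 0 := by
    refine (AlgebraicGeometry.basicOpen_eq_bot_iff _).1 ?_
    rw [← Scheme.preimage_basicOpen_top]
    refine Opens.ext (Set.eq_empty_of_forall_notMem fun t ht => ?_)
    have h1 : g.left t ∈ (GITss.opn U).left.basicOpen (s - csts (GITss.opn U) c) := ht
    rw [hg, ← val_ne_zero_iff (U := ⊤) _ x trivial, ← valHom_apply, map_sub, valHom_apply, valHom_apply, val_csts,
      sub_self] at h1
    exact h1 rfl
  rw [map_sub, sub_eq_zero] at h0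
  rw [h0, Over.comp_left, GmPts.appTop_comp_apply]
  refine ((RingHom.congr_fun (appTop_comp_csts g) c).trans
    (RingHom.congr_fun (appTop_comp_csts (toUnit T)) c).symm).trans ?_
  show (toUnit T).left.appTop _ = _
  refine congrArg _ ?_
  show _ = x.left.appTop s
  apply (Scheme.ΓSpecIso (CommRingCat.of k)).commRingCatIsoToRingEquiv.injective
  show (Scheme.ΓSpecIso (CommRingCat.of k)).hom _ = (Scheme.ΓSpecIso (CommRingCat.of k)).hom (x.left.appTop s)
  simp only [c, val, appLE_top, csts]
  simp

variable {A : Type u} [CommRing A] [HopfAlgebra k A] (e : CoactBr.sp k A ≅ G) [IsMonHom e.hom]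
  [IsAlgClosed k] [CharZero k] [Algebra.FiniteType k A] [IsProper X.hom]

include e in
set_option maxHeartbeats 800000 in
/-- A point with positive numerical function is properly stable. -/
theorem isProperlyStablePt_of_pos (hG : Red.IsReductive G) (hLR : HopfRep.IsLinearlyReductive k A)
    (hB : HMNum.AmpleCover B) (x : Pt X)
    (hpos : ∀ (l : Red.Gm (Spec (CommRingCat.of k)) ⟶ G) [IsMonHom l], l ≠ 1 → ∀ m : ℤ, HMNum.IsMu B l x m → 0 < m) :
    B.IsProperlyStablePt (base x) := by
  classical
  haveI : Infinite k := IsAlgClosed.instInfinite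
  haveI : IsReduced A := HopfCartier.isReduced (k := k) (A := A)
  haveI := isAffine_left e
  haveI : LocallyOfFiniteType G.hom := by
    haveI : IsIso e.inv.left := inferInstanceAs (IsIso ((Over.forget _).map e.inv))
    haveI : LocallyOfFiniteType (CoactBr.sp k A).hom :=
      (HasRingHomProperty.Spec_iff (P := @LocallyOfFiniteType)).2
        (RingHom.finiteType_algebraMap.2 ‹Algebra.FiniteType k A›)
    rw [← Over.w e.inv]; infer_instance
  haveI : QuasiCompact G.hom := inferInstance
  -- semi-stability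
  have hss : B.IsSemistablePt (base x) := by
    by_contra hno
    obtain ⟨l, _, m, hm, hneg⟩ := exists_destabilising (e := e) hLR hB x hno
    by_cases hl : l = 1
    · have := mu_one_eq_zero hB hl hm
      omega
    · have := hpos l hl m hm
      omega
  obtain ⟨n₀, f₀, hn₀, hf₀, hxf₀, U₀, hU₀, hU₀a⟩ := hss
  obtain ⟨L, q, hN, hq, hNq, hc, hspan⟩ := exists_linData_cover B e hB hn₀ hf₀.1 ⟨U₀, hU₀, hU₀a⟩
  have hf₁ : B.IsInvSection L.N (f₀ ^ q) := hNq ▸ GITss.isInvSection_pow hf₀ q
  set f₁ := f₀ ^ q
  set U := GITss.Xf B hf₁.1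
  have hUa : IsAffineOpen U := by
    convert hU₀a using 1
    exact Opens.ext ((GITss.nonvanishing_pow hf₀.1 hq).trans hU₀.symm)
  obtain ⟨v, hv, hnz⟩ := exists_nz (B := B) x
  have hxU : base x ∈ U := by
    show base x ∈ GLinSh.nonvanishing B.π f₁
    rw [GITss.nonvanishing_pow hf₀.1 hq]
    exact hxf₀
  let c := val (U := ⊤) f₁ v trivial
  have hc0 : c ≠ 0 := (val_ne_zero_iff_mem hf₁.1 hnz).2 (hv.symm ▸ hxU)
  -- the orbit morphism into the affine open
  have hst := GITss.stable_Xf hf₁
  let x' : Pt (GITss.opn U) := Over.homMk (IsOpenImmersion.lift U.ι x.left (by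
    haveI := subsingleton_one (k := k)
    rintro _ ⟨t, rfl⟩
    erw [Scheme.Opens.range_ι]
    rw [Subsingleton.elim t (IsLocalRing.closedPoint k)]
    exact hxU)) (by
      show _ ≫ U.ι ≫ X.hom = _
      rw [IsOpenImmersion.lift_fac_assoc]
      exact Over.w x)
  have hx' : x' ≫ GITss.inc U = x := Over.OverMorphism.ext (IsOpenImmersion.lift_fac _ _ _)
  let σ : G ⟶ GITss.opn U := lift (𝟙 G) (toUnit G ≫ x') ≫ (GITss.resAct hst).act
  have hσ : ∀ {T : Over (Spec (CommRingCat.of k))} (g : T ⟶ G),
      g ≫ σ ≫ GITss.inc U = lift g (toUnit T ≫ x) ≫ a.act := fun {T} g => by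
    simp only [σ, Category.assoc, comp_lift_assoc, Category.comp_id]
    erw [GITss.resAct_inc hst]
    rw [← Category.assoc g (toUnit G), toUnit_unique (g ≫ toUnit G) (toUnit T), lift_whiskerLeft_assoc,
      Category.assoc, hx']
  choose r hr using fun i => GITss.exists_ratio hf₁.1 (L.hF i)
  let rI : L.J → Γ((GITss.opn U).left, ⊤) := fun i => U.topIso.inv (r i)
  let θ : MvPolynomial L.J k →+* Γ((GITss.opn U).left, ⊤) :=
    MvPolynomial.eval₂Hom (csts (GITss.opn U)) fun i => csts (GITss.opn U) c * rI i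
  letI := PsRefl.linComod L.corep
  haveI := PsRefl.isCoactAlg_linComod L.corep
  let φ := GLin.orbitHom k A (GLin.vecPt k L.J (L.vec v))
  have hφ : ∀ {K : Type u} [CommRing K] [Algebra k K] (ψ : A →ₐ[k] K) (i : L.J),
      ψ (φ (MvPolynomial.X i)) = mv L.M ψ (L.vec v) i := fun ψ i => L.orbitHom_X (L.vec v) i ψ
  have hint : φ.toRingHom.IsIntegral := isIntegral_orbit hLR L.corep (L.vec v) φ hφ fun lam hnt h0 => by
    haveI := isMonHom_opsInv e lam
    obtain ⟨m, hm⟩ := HMu.exists_isMu (a := a) (opsInv e lam) B x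
    have h1 := hpos _ (opsInv_ne_one e lam hnt) m hm
    have h2 := L.mu_le lam hc hv hnz h0 hm
    have : (1 : ℤ) ≤ L.N := by exact_mod_cast hN
    nlinarith
  have hrel : σ.left.appTop.hom.comp θ =
      ((fnG e).comp (HopfAlgebra.antipodeAlgHom k A).toRingHom).comp φ.toRingHom := by
    refine MvPolynomial.ringHom_ext (fun q => ?_) fun i => ?_
    · show σ.left.appTop (MvPolynomial.eval₂Hom _ _ (MvPolynomial.C q)) =
        fnG e (HopfAlgebra.antipodeAlgHom k A (φ (algebraMap k (MvPolynomial L.J k) q)))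
      rw [MvPolynomial.eval₂Hom_C, AlgHom.commutes, AlgHom.commutes, fnG_algebraMap]
      exact RingHom.congr_fun (appTop_comp_csts σ) q
    · obtain ⟨z, hz⟩ := fnG_surjective e (σ.left.appTop (θ (MvPolynomial.X i)))
      show σ.left.appTop (θ (MvPolynomial.X i)) = fnG e (HopfAlgebra.antipodeAlgHom k A (φ (MvPolynomial.X i)))
      rw [← hz]
      congr 1
      refine sub_eq_zero.1 (GLinFree.eq_zero_of_points (k := k) fun g => ?_)
      rw [map_sub, sub_eq_zero, ← val_fnG_pp e g z, hz, val_appTop σ]
      show val (U := ⊤) (θ (MvPolynomial.X i)) (pp e g ≫ σ) trivial = pinv g (φ (MvPolynomial.X i))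
      rw [MvPolynomial.eval₂Hom_X', val_mul, val_csts, hφ]
      let w := lift (pp e g) v ≫ B.lift.act
      have hw : w ≫ B.π = (pp e g ≫ σ) ≫ GITss.inc U := by
        rw [Category.assoc (pp e g) σ, hσ, act_π, hv, toUnit_unique (toUnit _) (𝟙 _), Category.id_comp]
      have hwU : base w ∈ B.π.left ⁻¹ᵁ U := by
        show B.π.left (base w) ∈ U
        rw [← base_comp, hw, base_comp]
        exact (base (pp e g ≫ σ)).2
      have h1 := congrArg (valHom w hwU) (hr i)
      simp only [map_mul, valHom_apply, val_app] at h1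
      erw [val_res le_top f₁ w hwU, val_res le_top (L.F i) w hwU] at h1
      rw [val_inv hf₁.2] at h1
      have h2 : val (U := ⊤) (rI i) (pp e g ≫ σ) trivial =
          val (r i) ((pp e g ≫ σ) ≫ GITss.inc U) (base (pp e g ≫ σ)).2 := by
        have et : U.topIso.inv = U.ι.appLE U ⊤ (Scheme.Opens.ι_preimage_self U).ge := by
          rw [Scheme.Opens.topIso_inv, Scheme.Opens.ι_appLE]
          rfl
        simp only [rI, et]
        exact (val_appLE (GITss.inc U) (Scheme.Opens.ι_preimage_self U).ge (r i) (pp e g ≫ σ) trivial).trans rfl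
      rw [h2, mul_comm, show pinv g = ev e (pp e g)⁻¹ by rw [ev_inv, ev_pp], ← congrFun (L.vec_act (pp e g) v) i, ← val_congr' (r i) hw]
      exact h1
  haveI : IsAffine (GITss.opn U).left := hUa
  haveI : IsIntegralHom σ.left := by
    rw [HasAffineProperty.iff_of_isAffine (P := @IsIntegralHom)]
    refine ⟨inferInstance, RingHom.IsIntegral.tower_top θ _ ?_⟩
    show (σ.left.appTop.hom.comp θ).IsIntegral
    rw [hrel]
    refine RingHom.IsIntegral.trans _ _ hint ((RingHom.Finite.of_surjective _ fun s => ?_).to_isIntegral)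
    obtain ⟨z, hz⟩ := fnG_surjective e s
    exact ⟨HopfAlgebra.antipodeAlgHom k A z, by
      show fnG e (HopfAlgebra.antipodeAlgHom k A (HopfAlgebra.antipodeAlgHom k A z)) = s
      rw [antipode_antipode e, hz]⟩
  haveI := subsingleton_one (k := k)
  have hrange : Set.range x.left.base = {base x} := by
    refine Set.Subset.antisymm ?_ (Set.singleton_subset_iff.2 ⟨_, rfl⟩)
    rintro _ ⟨t, rfl⟩
    rw [Set.mem_singleton_iff, Subsingleton.elim t (IsLocalRing.closedPoint k)]
    rfl
  -- the stabiliser is finite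
  have hfin : base x ∈ GITss.finOpen a := by
    refine (GITss.isFinite_stab_iff a (T := 𝟙_ _) (Ω := k) (Iso.refl _) x hrange).1 ?_
    haveI : LocallyOfFiniteType (GITss.opn U).hom := (GITss.finiteType_opn U).1
    haveI : LocallyOfFiniteType σ.left := by
      haveI : LocallyOfFiniteType (σ.left ≫ (GITss.opn U).hom) := by rw [Over.w σ]; infer_instance
      exact locallyOfFiniteType_of_comp σ.left (GITss.opn U).hom
    haveI : IsFinite σ.left := (IsFinite.iff_isIntegralHom_and_locallyOfFiniteType _).2 ⟨inferInstance, inferInstance⟩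
    haveI : IsIso (fst G (𝟙_ (Over (Spec (CommRingCat.of k))))).left :=
      inferInstanceAs (IsIso ((Over.forget _).map (ρ_ G).hom))
    haveI : IsIso (lift (𝟙 X) (toUnit X) : X ⟶ X ⊗ 𝟙_ _).left :=
      inferInstanceAs (IsIso ((Over.forget _).map (ρ_ X).inv))
    have hpsi : GIT.psi a x = fst G _ ≫ σ ≫ GITss.inc U ≫ lift (𝟙 X) (toUnit X) := by
      rw [reassoc_of% hσ (fst G (𝟙_ _))]
      apply CartesianMonoidalCategory.hom_ext
      · simp only [GIT.psi, Category.assoc, lift_fst, Category.comp_id]
        rw [toUnit_unique (toUnit (G ⊗ 𝟙_ _)) (snd G _)]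
        congr 1
      · exact toUnit_unique _ _
    haveI : LocallyQuasiFinite (GIT.psi a x).left := by
      rw [hpsi]
      simp only [Over.comp_left]
      haveI : IsOpenImmersion (GITss.inc U).left := inferInstanceAs (IsOpenImmersion U.ι)
      infer_instance
    haveI : QuasiCompact (GIT.psi a x).left := by
      haveI : IsSeparated X.hom := inferInstance
      haveI : QuasiCompact ((GIT.psi a x).left ≫ (X ⊗ 𝟙_ _).hom) := by
        rw [Over.w (GIT.psi a x), ← Over.w (fst G (𝟙_ (Over (Spec (CommRingCat.of k)))))]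
        infer_instance
      haveI : QuasiSeparated (X ⊗ 𝟙_ (Over (Spec (CommRingCat.of k)))).hom := by
        rw [← Over.w (fst X (𝟙_ (Over (Spec (CommRingCat.of k)))))]
        haveI : IsIso (fst X (𝟙_ (Over (Spec (CommRingCat.of k))))).left :=
          inferInstanceAs (IsIso ((Over.forget _).map (ρ_ X).hom))
        infer_instance
      exact QuasiCompact.of_comp _ (X ⊗ 𝟙_ (Over (Spec (CommRingCat.of k)))).hom
    haveI : LocallyQuasiFinite (GLinSh.stabTo a x) :=
      MorphismProperty.pullback_snd (P := @LocallyQuasiFinite) _ _ ‹_›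
    haveI : QuasiCompact (GLinSh.stabTo a x) := MorphismProperty.pullback_snd (P := @QuasiCompact) _ _ ‹_›
    haveI : IsLocallyArtinian (𝟙_ (Over (Spec (CommRingCat.of k)))).left :=
      inferInstanceAs (IsLocallyArtinian (Spec (CommRingCat.of k)))
    exact IsFinite.of_locallyQuasiFinite _
  refine ⟨?_, (GITss.mem_finOpen_iff a _).1 hfin⟩
  refine GITss.isStablePt_of_regular hG ⟨GITss.finOpen a, hfin, fun y hy => ?_⟩ hN hf₁ rfl hUa hxU
    fun Ω _ _ T eT g hg => ?_
  · have hz : ∀ z ∈ GITss.finOpen a, GITss.sdim a z = 0 := fun z hz => by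
      obtain ⟨m, hm, -⟩ := GITss.exists_sdim_le a z
      have h0 : GITss.sdim a z ≤ 0 := by
        rw [GITss.sdim_eq]; exact (GITss.finite_iff_dim_le a z).1 hz
      rw [hm] at h0 ⊢
      exact le_antisymm h0 (by exact_mod_cast Nat.zero_le m)
    rw [hz y hy, hz _ hfin]
  -- the orbit is closed in the affine open
  haveI : Subsingleton T.left := eT.hom.homeomorph.toEquiv.subsingleton
  have hgx : g = toUnit T ≫ x := by
    let g' : T ⟶ GITss.opn U := Over.homMk (IsOpenImmersion.lift U.ι g.left (by
      erw [Scheme.Opens.range_ι]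
      exact hg.subset.trans (Set.singleton_subset_iff.2 hxU))) (by
        show _ ≫ U.ι ≫ X.hom = _
        rw [IsOpenImmersion.lift_fac_assoc]
        exact Over.w g)
    have hg' : g' ≫ GITss.inc U = g := Over.OverMorphism.ext (IsOpenImmersion.lift_fac _ _ _)
    rw [← hg', eq_toUnit_comp eT hUa x' g' (fun t => U.ι.isOpenEmbedding.injective ?_), Category.assoc, hx']
    show U.ι (g'.left t) = U.ι (base x')
    show (g'.left ≫ U.ι) t = _
    rw [show g'.left ≫ U.ι = g.left from congr($(hg').left),
      Set.mem_singleton_iff.1 (hg.subset (Set.mem_range_self t))]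
    exact congrArg base hx'.symm
  let j : GITss.opn U ⊗ T ⟶ X ⊗ T := GITss.inc U ▷ T
  have hsq : IsPullback j.left (fst (GITss.opn U) T).left (fst X T).left U.ι := by
    have h := IsPullback.of_iso (Blanchard.isPullback_whiskerLeft T (GITss.inc U)).flip (β_ T (GITss.opn U)) (β_ T X)
      (Iso.refl _) (Iso.refl _) (fst' := j) (snd' := fst (GITss.opn U) T) (f' := fst X T) (g' := GITss.inc U)
      (by simp [j]) (by simp) (by simp) (by simp)
    exact h.map (Over.forget _)
  haveI : IsOpenImmersion j.left :=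
    MorphismProperty.of_isPullback hsq.flip (inferInstanceAs (IsOpenImmersion U.ι))
  haveI : IsIntegralHom (σ ▷ T).left := by
    have h := IsPullback.of_iso (Blanchard.isPullback_whiskerLeft T σ).flip (β_ T G) (β_ T (GITss.opn U))
      (Iso.refl _) (Iso.refl _) (fst' := σ ▷ T) (snd' := fst G T) (f' := fst (GITss.opn U) T) (g' := σ)
      (by simp) (by simp) (by simp) (by simp)
    exact MorphismProperty.of_isPullback (h.map (Over.forget _)).flip ‹IsIntegralHom σ.left›
  have hpsi : GIT.psi a g = (σ ▷ T) ≫ j := by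
    rw [hgx]
    apply CartesianMonoidalCategory.hom_ext
    · simp only [GIT.psi, j, Category.assoc, whiskerRight_fst, lift_fst, whiskerRight_fst_assoc]
      rw [hσ, toUnit_unique (toUnit (G ⊗ T)) (snd G T ≫ toUnit T), Category.assoc]
      congr 1
    · simp [GIT.psi, j]
  have hcl : IsClosed (Set.range (σ ▷ T).left) := (σ ▷ T).left.isClosedMap.isClosed_range
  obtain ⟨C, hC, hCR⟩ := j.left.isOpenEmbedding.toIsEmbedding.toIsInducing.isClosed_iff.1 hcl
  refine isClosed_induced_iff.2 ⟨C, hC, Set.ext fun p => ?_⟩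
  obtain ⟨q, hq, -⟩ := Scheme.exists_preimage_of_isPullback hsq p.1 ⟨_, p.2⟩ rfl
  show p.1 ∈ C ↔ p.1 ∈ Set.range (GIT.psi a g).left.base
  rw [← hq]
  refine Iff.trans (Set.ext_iff.1 hCR q) ⟨?_, ?_⟩
  · rintro ⟨u, rfl⟩
    exact ⟨u, by rw [hpsi]; rfl⟩
  · rintro ⟨u, hu⟩
    refine ⟨u, j.left.isOpenEmbedding.injective ?_⟩
    rw [hpsi] at hu
    exact hu

end Groth.Agent.HMBr
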